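import Groth.Agent.EtFound.IntegralCore
import Mathlib.RingTheory.Invariant.Basic
import Mathlib.FieldTheory.IsAlgClosed.Basic
import Mathlib.FieldTheory.PurelyInseparable.Basic

/-!
# Finite group invariants: geometric fibres, invariants after flat base change, strictly henselian sections
-/

set_option autoImplicit false

universe u

open scoped TensorProduct

namespace Groth.Agent.ConstQuot49

section

variable {B A Ω : Type u} [CommRing B] [CommRing A] [Algebra B A] [Field Ω]
  {G : Type u} [Group G] [MulSemiringAction G A]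

open Polynomial in
/-- Two points of `A` with values in a domain which agree on the invariants differ by the group. -/
theorem exists_smul_of_comp_eq [Fintype G] [Algebra.IsInvariant B A G] (χ χ' : A →+* Ω)
    (h : χ.comp (algebraMap B A) = χ'.comp (algebraMap B A)) :
    ∃ g : G, ∀ a, χ' a = χ (g • a) := by
  classical
  by_contra hc
  simp only [not_exists, not_forall] at hc
  choose a ha using hc
  let idx := Fintype.equivFin G
  let P : A[X] := ∑ k : G, C (a k) * X ^ (idx k : ℕ)
  let σ : G → A[X] →+* A[X] := fun g => mapRingHom (MulSemiringAction.toRingHom G A g)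
  have hσ : ∀ g k, σ g (σ k P) = σ (g * k) P := by
    intro g k
    show ((P.map _).map _) = P.map _
    rw [Polynomial.map_map]
    congr 1
    ext x
    exact (mul_smul g k x).symm
  let Q : Polynomial A[X] := ∏ g : G, (X - C (σ g P))
  have hQ : ∀ g, Q.map (σ g) = Q := by
    intro g
    simp only [Q, Polynomial.map_prod, Polynomial.map_sub, map_X, map_C, hσ]
    exact Fintype.prod_equiv (Equiv.mulLeft g) _ _ fun k => rfl
  have hQc : Q.map (mapRingHom χ) = Q.map (mapRingHom χ') := by
    ext i j
    simp only [coeff_map, coe_mapRingHom]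
    obtain ⟨b, hb⟩ := Algebra.IsInvariant.isInvariant (A := B) (G := G) ((Q.coeff i).coeff j) fun g => by
      conv_rhs => rw [← hQ g]
      simp only [coeff_map, σ, coe_mapRingHom]
      rfl
    rw [← hb]
    exact RingHom.congr_fun h b
  have h0 : (Q.map (mapRingHom χ')).eval (P.map χ') = 0 := by
    simp only [Q, Polynomial.map_prod, eval_prod, Polynomial.map_sub, map_X, map_C, eval_sub, eval_X, eval_C]
    refine Finset.prod_eq_zero (Finset.mem_univ 1) ?_
    have : σ 1 P = P := by
      show P.map _ = P
      convert Polynomial.map_id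
      ext x
      exact one_smul G x
    rw [this, coe_mapRingHom, sub_self]
  rw [← hQc] at h0
  simp only [Q, Polynomial.map_prod, eval_prod, Polynomial.map_sub, map_X, map_C, eval_sub, eval_X, eval_C,
    Finset.prod_eq_zero_iff, sub_eq_zero] at h0
  obtain ⟨g, -, hg⟩ := h0
  refine ha g ?_
  have := congrArg (fun q : Polynomial Ω => q.coeff (idx g)) hg
  simpa [P, σ, coe_mapRingHom, finset_sum_coeff, coeff_C_mul, coeff_X_pow, Fin.val_inj] using this

/-- A point with values in an algebraically closed field extends through any prime over its kernel. -/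
theorem exists_extension_ker [IsAlgClosed Ω] [Algebra.IsIntegral B A] (y : B →+* Ω) (Q : Ideal A) [Q.IsPrime]
    (hQ : Q.comap (algebraMap B A) = RingHom.ker y) :
    ∃ x : A →+* Ω, x.comp (algebraMap B A) = y ∧ RingHom.ker x = Q := by
  let P := Q.comap (algebraMap B A)
  let yb : B ⧸ P →+* Ω := Ideal.Quotient.lift P y fun b hb => hQ.le hb
  let : Algebra (B ⧸ P) Ω := yb.toAlgebra
  have hyb : Function.Injective yb := RingHom.lift_injective_of_ker_le_ideal P _ hQ.ge
  have : Algebra.IsIntegral (B ⧸ P) (A ⧸ Q) := ⟨fun x => by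
    obtain ⟨a, rfl⟩ := Ideal.Quotient.mk_surjective x
    exact ((Algebra.IsIntegral.isIntegral (R := B) a).map (Ideal.Quotient.mkₐ B Q)).tower_top⟩
  have : Module.IsTorsionFree (B ⧸ P) Ω := Module.isTorsionFree_iff_faithfulSMul.2
    ((faithfulSMul_iff_algebraMap_injective _ _).2 hyb)
  have : Module.IsTorsionFree (B ⧸ P) (A ⧸ Q) := Module.isTorsionFree_iff_faithfulSMul.2
    ((faithfulSMul_iff_algebraMap_injective _ _).2 Ideal.algebraMap_quotient_injective)
  let f : A ⧸ Q →ₐ[B ⧸ P] Ω := IsAlgClosed.lift
  refine ⟨f.toRingHom.comp (Ideal.Quotient.mk Q), RingHom.ext fun b => f.commutes (Ideal.Quotient.mk P b), ?_⟩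
  have : Algebra.IsAlgebraic (B ⧸ P) (A ⧸ Q) := Algebra.IsIntegral.isAlgebraic
  have hf : Function.Injective f := by
    rw [injective_iff_map_eq_zero]
    intro z hz
    by_contra hne
    obtain ⟨p, hp, hpz⟩ := (Algebra.IsAlgebraic.isAlgebraic (R := B ⧸ P) z).exists_nonzero_coeff_and_aeval_eq_zero
      (mem_nonZeroDivisors_of_ne_zero hne)
    apply hp
    apply hyb
    rw [map_zero]
    have := congrArg f hpz
    rw [map_zero, Polynomial.aeval_algHom_apply f z p |>.symm, hz] at this
    rw [Polynomial.aeval_def, Polynomial.eval₂_at_zero] at this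
    exact this
  ext a
  rw [RingHom.mem_ker, RingHom.comp_apply, AlgHom.toRingHom_eq_coe, RingHom.coe_coe,
    map_eq_zero_iff _ hf, Ideal.Quotient.eq_zero_iff_mem]

/-- Points of the invariants with values in an algebraically closed field extend. -/
theorem exists_extension [IsAlgClosed Ω] [Algebra.IsIntegral B A]
    (hinj : Function.Injective (algebraMap B A)) (y : B →+* Ω) :
    ∃ x : A →+* Ω, x.comp (algebraMap B A) = y := by
  have := RingHom.ker_isPrime y
  obtain ⟨Q, -, hQ, hQy⟩ := Ideal.exists_ideal_over_prime_of_isIntegral (RingHom.ker y) (⊥ : Ideal A)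
    (fun b hb => by
      rw [Ideal.mem_comap, Ideal.mem_bot] at hb
      rw [RingHom.mem_ker, hinj (hb.trans (map_zero _).symm), map_zero])
  obtain ⟨x, hx, -⟩ := exists_extension_ker y Q hQy
  exact ⟨x, hx⟩

/-- Invariants commute with flat base change. -/
theorem mem_range_of_fixed [Finite G] [Algebra.IsInvariant B A G] [SMulCommClass G B A]
    (E : Type u) [CommRing E] [Algebra B E] [Module.Flat B E] (z : E ⊗[B] A)
    (hz : ∀ g : G, Algebra.TensorProduct.map (AlgHom.id B E) (MulSemiringAction.toAlgEquiv B A g).toAlgHom z = z) :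
    z ∈ Set.range (algebraMap E (E ⊗[B] A)) := by
  classical
  have := Fintype.ofFinite G
  let δ : A →ₗ[B] (G → A) := LinearMap.pi fun g =>
    (MulSemiringAction.toAlgEquiv B A g).toLinearMap - LinearMap.id
  have hex : Function.Exact (Algebra.linearMap B A) δ := by
    intro a
    constructor
    · intro ha
      exact Algebra.IsInvariant.isInvariant (A := B) (G := G) a fun g => sub_eq_zero.1 (congrFun ha g)
    · rintro ⟨b, rfl⟩
      funext g
      show g • algebraMap B A b - algebraMap B A b = 0
      rw [smul_algebraMap, sub_self]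
  have hex' := Module.Flat.lTensor_exact E hex
  have h0 : δ.lTensor E z = 0 := by
    apply (TensorProduct.piRight B B E (fun _ : G => A)).injective
    rw [map_zero]
    funext g
    have key : ∀ w : E ⊗[B] A, TensorProduct.piRight B B E (fun _ : G => A) (δ.lTensor E w) g =
        Algebra.TensorProduct.map (AlgHom.id B E) (MulSemiringAction.toAlgEquiv B A g).toAlgHom w - w := by
      intro w
      induction w using TensorProduct.induction_on with
      | zero => simp
      | add a b ha hb => simp only [map_add, Pi.add_apply, ha, hb]; abel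
      | tmul e a => simp [δ, TensorProduct.tmul_sub]
    rw [key, hz g, sub_self, Pi.zero_apply]
  obtain ⟨w, rfl⟩ := (hex' z).1 h0
  have key : ∀ w : E ⊗[B] B, (Algebra.linearMap B A).lTensor E w =
      algebraMap E (E ⊗[B] A) (TensorProduct.rid B E w) := by
    intro w
    induction w using TensorProduct.induction_on with
    | zero => simp
    | add a b ha hb => simp only [map_add, ha, hb]
    | tmul e b =>
      rw [LinearMap.lTensor_tmul, Algebra.linearMap_apply, TensorProduct.rid_tmul,
        Algebra.TensorProduct.algebraMap_apply, Algebra.algebraMap_self_apply,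
        Algebra.algebraMap_eq_smul_one b, TensorProduct.tmul_smul, TensorProduct.smul_tmul']
  exact ⟨_, (key w).symm⟩

end

/-- Prescribing the values at finitely many points with maximal kernels. -/
theorem exists_eq_of_points {A' Ω ι : Type u} [CommRing A'] [CommRing Ω] [Finite ι] (x : ι → A' →+* Ω)
    (hmax : ∀ i, (RingHom.ker (x i)).IsMaximal) (hinj : ∀ i j, RingHom.ker (x i) = RingHom.ker (x j) → i = j)
    (v : ι → Ω) (hv : ∀ i, v i ∈ (x i).range) : ∃ a, ∀ i, x i a = v i := by
  choose b hb using hv
  obtain ⟨a, ha⟩ := Ideal.exists_forall_sub_mem_ideal (I := fun i => RingHom.ker (x i))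
    (fun i j hij => (Ideal.isCoprime_iff_sup_eq).2 ((hmax i).coprime_of_ne (hmax j) fun h => hij (hinj i j h))) b
  exact ⟨a, fun i => by rw [← hb i, ← sub_eq_zero, ← map_sub]; exact ha i⟩

section Henselian

open IsLocalRing

variable {R A' Ω : Type u} [CommRing R] [HenselianLocalRing R] [IsSepClosed (ResidueField R)]
  [CommRing A'] [Algebra R A'] [Module.Finite R A'] [Field Ω]

/-- Points of a finite algebra over a strictly henselian ring are determined by their kernel. -/
theorem ext_of_ker_eq (ρ : R →+* Ω) (hρ : RingHom.ker ρ = maximalIdeal R) (x x' : A' →+* Ω)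
    (hx : x.comp (algebraMap R A') = ρ) (hx' : x'.comp (algebraMap R A') = ρ)
    (hk : RingHom.ker x = RingHom.ker x') : x = x' := by
  let k := ResidueField R
  let : Algebra k Ω := (Ideal.Quotient.lift (maximalIdeal R) ρ fun a ha => hρ.ge ha).toAlgebra
  let q := RingHom.ker x
  have : q.IsPrime := RingHom.ker_isPrime x
  have hq : q.comap (algebraMap R A') = maximalIdeal R := by
    rw [RingHom.comap_ker, hx, hρ]
  let : Algebra k (A' ⧸ q) := (Ideal.Quotient.lift (maximalIdeal R) ((Ideal.Quotient.mk q).comp (algebraMap R A'))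
    fun a ha => Ideal.Quotient.eq_zero_iff_mem.2 (hq.ge ha)).toAlgebra
  have : IsScalarTower R k (A' ⧸ q) := .of_algebraMap_eq fun r => rfl
  have : Module.Finite k (A' ⧸ q) := Module.Finite.of_restrictScalars_finite R k _
  have := (Algebra.IsIntegral.isField_iff_isField (R := k) (S := A' ⧸ q) (algebraMap k (A' ⧸ q)).injective).1
    (Field.toIsField k)
  let := this.toField
  have : IsPurelyInseparable k (A' ⧸ q) := inferInstance
  let f : A' ⧸ q →ₐ[k] Ω := ⟨Ideal.Quotient.lift q x (fun _ h => h), fun c => by
    obtain ⟨r, rfl⟩ := residue_surjective c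
    exact RingHom.congr_fun hx r⟩
  let f' : A' ⧸ q →ₐ[k] Ω := ⟨Ideal.Quotient.lift q x' (fun _ h => hk.le h), fun c => by
    obtain ⟨r, rfl⟩ := residue_surjective c
    exact RingHom.congr_fun hx' r⟩
  have hff : f.toRingHom = f'.toRingHom :=
    IsPurelyInseparable.injective_comp_algebraMap k (A' ⧸ q) Ω (f.comp_algebraMap.trans f'.comp_algebraMap.symm)
  exact RingHom.ext fun a => RingHom.congr_fun hff (Ideal.Quotient.mk q a)

/-- A prime over the closed point carries a geometric point. -/
theorem exists_point [IsAlgClosed Ω] (ρ : R →+* Ω) (hρ : RingHom.ker ρ = maximalIdeal R) (Q : Ideal A') [Q.IsPrime]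
    (hQ : Q.comap (algebraMap R A') = maximalIdeal R) :
    ∃ x : A' →+* Ω, x.comp (algebraMap R A') = ρ ∧ RingHom.ker x = Q := by
  have : Algebra.IsIntegral R A' := Algebra.IsIntegral.of_finite R A'
  exact exists_extension_ker (B := R) ρ Q (hQ.trans hρ.symm)

set_option maxHeartbeats 400000 in
/-- Over a strictly henselian ring, compatible geometric points of an etale algebra over a finite algebra
come from a section. -/
theorem exists_section [IsAlgClosed Ω] {A C : Type u} [CommRing A] [Algebra A A'] [CommRing C] [Algebra A C] [Algebra.Etale A C]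
    (ρ : R →+* Ω) (hρ : RingHom.ker ρ = maximalIdeal R)
    (w : ∀ x : A' →+* Ω, x.comp (algebraMap R A') = ρ → C →+* Ω)
    (hw : ∀ x hx, (w x hx).comp (algebraMap A C) = x.comp (algebraMap A A')) :
    ∃ ψ : C →ₐ[A] A', ∀ x hx, x.comp ψ.toRingHom = w x hx := by
  classical
  let k := ResidueField R
  let J : Ideal A' := (maximalIdeal R).map (algebraMap R A')
  let Pts := {x : A' →+* Ω // x.comp (algebraMap R A') = ρ}
  -- finitely many points
  have hJ : ∀ x : Pts, J ≤ RingHom.ker x.1 := fun x =>
    Ideal.map_le_iff_le_comap.2 (by rw [RingHom.comap_ker, x.2, hρ])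
  have : Algebra.IsIntegral R A' := Algebra.IsIntegral.of_finite R A'
  have hmax : ∀ x : Pts, (RingHom.ker x.1).IsMaximal := fun x => by
    have := RingHom.ker_isPrime x.1
    refine Ideal.isMaximal_of_isIntegral_of_isMaximal_comap (R := R) _ ?_
    rw [RingHom.comap_ker, x.2, hρ]
    exact maximalIdeal.isMaximal R
  let T := A' ⧸ J
  let : Algebra k T := (Ideal.Quotient.lift (maximalIdeal R) ((Ideal.Quotient.mk J).comp (algebraMap R A'))
    fun a ha => Ideal.Quotient.eq_zero_iff_mem.2 (Ideal.mem_map_of_mem _ ha)).toAlgebra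
  have : IsScalarTower R k T := .of_algebraMap_eq fun r => rfl
  have : Module.Finite k T := Module.Finite.of_restrictScalars_finite R k _
  have : IsArtinianRing T := IsArtinianRing.of_finite k T
  have : Finite Pts := by
    let F : Pts → MaximalSpectrum T := fun x =>
      ⟨(RingHom.ker x.1).map (Ideal.Quotient.mk J), by
        have := hmax x
        exact (Ideal.map_eq_top_or_isMaximal_of_surjective _ Ideal.Quotient.mk_surjective this).resolve_left
          (fun h => this.ne_top (by
            have := congrArg (Ideal.comap (Ideal.Quotient.mk J)) h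
            rwa [Ideal.comap_map_mk (hJ x), Ideal.comap_top] at this))⟩
    refine Finite.of_injective F fun x y h => Subtype.ext (ext_of_ker_eq ρ hρ _ _ x.2 y.2 ?_)
    have := congrArg (fun m : MaximalSpectrum T => m.asIdeal.comap (Ideal.Quotient.mk J)) h
    simpa [F, Ideal.comap_map_mk (hJ x), Ideal.comap_map_mk (hJ y)] using this
  -- each point of `C` is defined over the residue field of the point of `A'`
  have hrange : ∀ (x : Pts) (c : C), w x.1 x.2 c ∈ x.1.range := by
    intro x c
    let F := A' ⧸ RingHom.ker x.1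
    have := hmax x
    let := Ideal.Quotient.field (RingHom.ker x.1)
    let : Algebra k F := (Ideal.Quotient.lift (maximalIdeal R) ((Ideal.Quotient.mk _).comp (algebraMap R A'))
      fun a ha => Ideal.Quotient.eq_zero_iff_mem.2 (hJ x (Ideal.mem_map_of_mem _ ha))).toAlgebra
    have : IsScalarTower R k F := .of_algebraMap_eq fun r => rfl
    have : Module.Finite k F := Module.Finite.of_restrictScalars_finite R k _
    have : Algebra.IsAlgebraic k F := Algebra.IsAlgebraic.of_finite k F
    have : IsSepClosed F := @Algebra.IsAlgebraic.isSepClosed k F _ _ _ _ _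
    let xb : F →+* Ω := RingHom.kerLift x.1
    let : Algebra F Ω := xb.toAlgebra
    let : Algebra A Ω := (x.1.comp (algebraMap A A')).toAlgebra
    have : IsScalarTower A F Ω := .of_algebraMap_eq fun a => rfl
    let σ : F ⊗[A] C →ₐ[F] Ω := Algebra.TensorProduct.lift (Algebra.ofId _ _)
      { __ := w x.1 x.2, commutes' := fun a => RingHom.congr_fun (hw x.1 x.2) a } fun _ _ => .all _ _
    obtain ⟨d, hd⟩ := Hensel.mem_range_of_formallyUnramified_sepClosed σ (1 ⊗ₜ c)
    obtain ⟨a, rfl⟩ := Ideal.Quotient.mk_surjective d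
    exact ⟨a, (hd.symm.trans (by simp [σ]) : _)⟩
  let I : Ideal A' := ⨅ x : Pts, RingHom.ker x.1
  -- the reduction of the section
  have hI : J ≤ I := le_iInf hJ
  let Φ : A' ⧸ I →+* (Pts → Ω) := Ideal.Quotient.lift I (RingHom.pi fun x : Pts => x.1) fun a ha =>
    funext fun x => (Submodule.mem_iInf _).1 ha x
  have hΦ : Function.Injective Φ := by
    refine RingHom.lift_injective_of_ker_le_ideal I _ fun a ha => (Submodule.mem_iInf _).2 fun x => ?_
    exact congrFun (RingHom.mem_ker.1 ha) x
  have hΦmk : ∀ a x, Φ (Ideal.Quotient.mk I a) x = x.1 a := fun a x => rfl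
  have hs : ∀ c : C, ∃ a : A', ∀ x : Pts, x.1 a = w x.1 x.2 c := fun c =>
    exists_eq_of_points (fun x : Pts => x.1) hmax
      (fun x y h => Subtype.ext (ext_of_ker_eq ρ hρ _ _ x.2 y.2 h)) _ fun x => hrange x c
  choose s hs' using hs
  let σI : C →ₐ[A] A' ⧸ I :=
    { toFun := fun c => Ideal.Quotient.mk I (s c)
      map_one' := hΦ (funext fun x => by simp [hΦmk, hs'])
      map_mul' := fun c d => hΦ (funext fun x => by simp [hΦmk, hs'])
      map_zero' := hΦ (funext fun x => by simp [hΦmk, hs'])
      map_add' := fun c d => hΦ (funext fun x => by simp [hΦmk, hs'])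
      commutes' := fun a => hΦ (funext fun x => by
        show Φ (Ideal.Quotient.mk I _) x = Φ (Ideal.Quotient.mk I _) x
        rw [hΦmk, hΦmk, hs']
        exact RingHom.congr_fun (hw x.1 x.2) a) }
  -- lift along the nilpotent part
  let π : T →ₐ[A] A' ⧸ I := Ideal.Quotient.factorₐ A hI
  have hπ : Function.Surjective π := Ideal.Quotient.factor_surjective hI
  have hnil : IsNilpotent (RingHom.ker (π : T →+* A' ⧸ I)) := by
    obtain ⟨n, hn⟩ := IsArtinianRing.isNilpotent_nilradical (R := T)
    refine ⟨n, le_bot_iff.1 ((Ideal.pow_right_mono ?_ n).trans hn.le)⟩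
    intro t ht
    obtain ⟨a, rfl⟩ := Ideal.Quotient.mk_surjective t
    rw [nilradical_eq_sInf, Ideal.mem_sInf]
    intro P (hP : P.IsPrime)
    have hP' : (P.comap (Ideal.Quotient.mk J)).IsMaximal :=
      Ideal.comap_isMaximal_of_surjective _ Ideal.Quotient.mk_surjective
    have hPm : (P.comap (Ideal.Quotient.mk J)).comap (algebraMap R A') = maximalIdeal R := by
      refine (maximalIdeal.isMaximal R).eq_of_le (Ideal.IsPrime.ne_top inferInstance) ?_ |>.symm
      intro r hr
      show Ideal.Quotient.mk J (algebraMap R A' r) ∈ P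
      rw [Ideal.Quotient.eq_zero_iff_mem.2 (Ideal.mem_map_of_mem _ hr)]
      exact zero_mem _
    obtain ⟨x, hx, hxP⟩ := exists_point ρ hρ _ hPm
    have : a ∈ I := Ideal.Quotient.eq_zero_iff_mem.1 ht
    have := (Submodule.mem_iInf _).1 this ⟨x, hx⟩
    rw [hxP] at this
    exact this
  have hfs : Algebra.FormallySmooth A C := inferInstance
  obtain ⟨σ, hσ⟩ : ∃ σ : C →ₐ[A] T, π.comp σ = σI :=
    ⟨Algebra.FormallySmooth.liftOfSurjective σI π hπ hnil,
      Algebra.FormallySmooth.comp_liftOfSurjective σI π hπ hnil⟩
  have : HenselianRing A' J := Hensel.henselianRing_of_isIntegral' (maximalIdeal R) A'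
  obtain ⟨ψ, hψ, -⟩ := Hensel.existsUnique_etale_lift_of_algebra (A := A') (I := J) σ
  refine ⟨ψ, fun x hx => RingHom.ext fun c => ?_⟩
  have h1 : Ideal.Quotient.mk I (ψ c) = Ideal.Quotient.mk I (s c) :=
    (congrArg π (AlgHom.congr_fun hψ c)).trans (AlgHom.congr_fun hσ c)
  have h2 := congrArg (fun t => Φ t ⟨x, hx⟩) h1
  exact h2.trans (hs' c ⟨x, hx⟩)

end Henselian

end Groth.Agent.ConstQuot49
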