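import Groth.Agent.ConstQuot49.Lift

/-!
# Invariant maps to algebraic spaces descend to the spectrum of the invariants
-/

set_option autoImplicit false
set_option backward.isDefEq.respectTransparency false
set_option backward.isDefEq.respectTransparency.types false

universe u

open CategoryTheory CategoryTheory.Limits AlgebraicGeometry Opposite AlgSp Groth.Agent.AlgSpLib
open scoped TensorProduct

namespace Groth.Agent.ConstQuot49

variable {S : Scheme.{u}} {N : Sp S}

section Glue

variable {ι : Type u} {U : Over S} (V : ι → Over S) (v : ∀ i, V i ⟶ U)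

theorem mem_J_of_etale (hv : ∀ i, Etale (v i).left) (hs : ∀ x : U.left, ∃ i, x ∈ Set.range (v i).left.base)
    (R : Sieve U) (hR : ∀ i, R (v i)) : R ∈ J S U := by
  rw [GrothendieckTopology.mem_over_iff]
  have hm : Presieve.ofArrows (fun i => (V i).left) (fun i => (v i).left) ∈
      Scheme.precoverage (@Flat ⊓ @LocallyOfFinitePresentation) U.left :=
    (Scheme.ofArrows_mem_precoverage_iff _).2 ⟨hs, fun i => have := hv i; ⟨inferInstance, inferInstance⟩⟩
  refine GrothendieckTopology.superset_covering _ ?_ (Precoverage.generate_mem_toGrothendieck hm)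
  rintro Z _ ⟨Y, a, _, ⟨i⟩, rfl⟩
  rw [Sieve.overEquiv_iff]
  convert R.downward_closed (hR i) (Over.homMk (U := Over.mk ((a ≫ (v i).left) ≫ U.hom)) (V := V i) a
    (by simp)) using 1
  ext; simp

theorem isSheafFor_ofArrows (hv : ∀ i, Etale (v i).left) (hs : ∀ x : U.left, ∃ i, x ∈ Set.range (v i).left.base) :
    Presieve.IsSheafFor N.obj (Presieve.ofArrows V v) :=
  (Presieve.isSheafFor_iff_generate _).2 (((isSheaf_iff_isSheaf_of_type _ _).1 N.property) _
    (mem_J_of_etale V v hv hs _ fun i => ⟨V i, 𝟙 _, v i, ⟨i⟩, Category.id_comp _⟩))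

theorem hom_ext_of_etale_cover (hv : ∀ i, Etale (v i).left)
    (hs : ∀ x : U.left, ∃ i, x ∈ Set.range (v i).left.base) {a b : (yon S).obj U ⟶ N}
    (h : ∀ i, (yon S).map (v i) ≫ a = (yon S).map (v i) ≫ b) : a = b := by
  refine (J S).uliftYonedaEquiv.injective ?_
  refine (isSheafFor_ofArrows V v hv hs).isSeparatedFor.ext ?_
  rintro W f ⟨i⟩
  rw [GrothendieckTopology.uliftYonedaEquiv_naturality, GrothendieckTopology.uliftYonedaEquiv_naturality, h i]

theorem exists_glue (hv : ∀ i, Etale (v i).left) (hs : ∀ x : U.left, ∃ i, x ∈ Set.range (v i).left.base)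
    (c : ∀ i, (yon S).obj (V i) ⟶ N)
    (hc : ∀ i j (W : Over S) (a : W ⟶ V i) (b : W ⟶ V j), a ≫ v i = b ≫ v j →
      (yon S).map a ≫ c i = (yon S).map b ≫ c j) :
    ∃ d : (yon S).obj U ⟶ N, ∀ i, (yon S).map (v i) ≫ d = c i := by
  obtain ⟨t, ht, -⟩ := (Presieve.isSheafFor_arrows_iff _ _).1 (isSheafFor_ofArrows (N := N) V v hv hs)
    (fun i => (J S).uliftYonedaEquiv (c i)) fun i j W a b hab => by
      rw [GrothendieckTopology.uliftYonedaEquiv_naturality, GrothendieckTopology.uliftYonedaEquiv_naturality,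
        hc i j W a b hab]
  refine ⟨(J S).uliftYonedaEquiv.symm t, fun i => (J S).uliftYonedaEquiv.injective ?_⟩
  rw [← GrothendieckTopology.uliftYonedaEquiv_naturality, Equiv.apply_symm_apply]
  exact ht i

end Glue

/-- Maps into an affine scheme out of a spectrum are detected after an injective ring map. -/
theorem cancel_affine {E M : CommRingCat.{u}} {φ : E ⟶ M} (hφ : Function.Injective φ) {X : Scheme.{u}} [IsAffine X]
    (a b : Spec E ⟶ X) (h : Spec.map φ ≫ a = Spec.map φ ≫ b) : a = b := by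
  rw [← cancel_mono X.isoSpec.hom]
  obtain ⟨α, hα⟩ := Spec.map_surjective (a ≫ X.isoSpec.hom)
  obtain ⟨β, hβ⟩ := Spec.map_surjective (b ≫ X.isoSpec.hom)
  rw [← hα, ← hβ]
  congr 1
  refine CommRingCat.hom_ext (RingHom.ext fun x => hφ ?_)
  have : α ≫ φ = β ≫ φ := Spec.map_injective (by rw [Spec.map_comp, Spec.map_comp, hα, hβ, reassoc_of% h])
  exact congrArg (fun f : Γ(X, ⊤) ⟶ M => f x) this

variable {B : Type u} [CommRing B] (sB : Spec (CommRingCat.of B) ⟶ S)
  {Ω : Type u} [Field Ω] [Algebra B Ω] {U : Over S} {p : (yon S).obj U ⟶ N}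

/-- Etale neighbourhood on which a map lifts to an etale chart through a given geometric point. -/
theorem exists_lift_nhd (hp : RepWith @Etale p) {E : Type u} [CommRing E] [Algebra B E]
    (n : (yon S).obj (ob sB E) ⟶ N) (ρ : E →ₐ[B] Ω) (u : ob sB Ω ⟶ U)
    (hu : (yon S).map u ≫ p = (yon S).map (mp sB ρ) ≫ n) :
    ∃ (C : Type u) (_ : CommRing C) (_ : Algebra B C) (_ : Algebra E C) (_ : IsScalarTower B E C)
      (_ : Algebra.Etale E C) (ρ' : C →ₐ[B] Ω) (t : ob sB C ⟶ U),
      ρ'.comp (IsScalarTower.toAlgHom B E C) = ρ ∧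
      (yon S).map t ≫ p = (yon S).map (mp sB (IsScalarTower.toAlgHom B E C)) ≫ n ∧ mp sB ρ' ≫ t = u := by
  let Z := hp.rep.pullback n
  let q : Z ⟶ ob sB E := hp.rep.snd n
  have : Etale q.left := hp.property_snd n
  let v : ob sB Ω ⟶ Z := hp.rep.lift' u (mp sB ρ) hu
  obtain ⟨C, _, _, _, j, hj, hw⟩ := exists_etale_affine_through (A := E) (V := Z.left) (Ω := Ω) q.left
    (fun _ : PUnit.{u + 1} => v.left)
  obtain ⟨w, hw⟩ := hw PUnit.unit
  let : Algebra B C := ((algebraMap E C).comp (algebraMap B E)).toAlgebra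
  have : IsScalarTower B E C := .of_algebraMap_eq fun _ => rfl
  have hwE : w.comp (algebraMap E C) = ρ.toRingHom := by
    have h1 : Spec.map (CommRingCat.ofHom w) ≫ Spec.map (CommRingCat.ofHom (algebraMap E C)) =
        Spec.map (CommRingCat.ofHom ρ.toRingHom) := by
      rw [← hj, ← Category.assoc, hw, ← Over.comp_left, Functor.relativelyRepresentable.lift'_snd, mp_left]
    rw [← Spec.map_comp] at h1
    exact congrArg CommRingCat.Hom.hom (Spec.map_injective h1)
  let ρ' : C →ₐ[B] Ω :=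
    { __ := w, commutes' := fun b => (RingHom.congr_fun hwE (algebraMap B E b)).trans (ρ.commutes b) }
  let j' : ob sB C ⟶ Z := Over.homMk j (by
    rw [← Over.w q, ← Category.assoc, hj]
    exact Over.w (mp sB (IsScalarTower.toAlgHom B E C)))
  have hj' : j' ≫ q = mp sB (IsScalarTower.toAlgHom B E C) := Over.OverMorphism.ext hj
  refine ⟨C, inferInstance, inferInstance, inferInstance, inferInstance, inferInstance, ρ', j' ≫ hp.rep.fst' n,
    AlgHom.ext fun e => RingHom.congr_fun hwE e, ?_, ?_⟩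
  · simp only [Functor.map_comp, Category.assoc, Functor.relativelyRepresentable.map_fst']
    rw [hp.rep.w, ← Category.assoc, ← Functor.map_comp, hj']
  · have : mp sB ρ' ≫ j' = v := Over.OverMorphism.ext hw
    rw [← Category.assoc, this, Functor.relativelyRepresentable.lift'_fst]

/-- Two lifts which agree at all geometric points over a point of the base agree near that point. -/
theorem exists_shrink [IsAlgClosed Ω] (hp : RepWith @Etale p) {E M : Type u} [CommRing E] [Algebra B E] [CommRing M]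
    [Algebra B M] [Algebra E M] [IsScalarTower B E M] [Module.Finite E M] (ρ : E →ₐ[B] Ω) (k k' : ob sB M ⟶ U)
    (hk : (yon S).map k ≫ p = (yon S).map k' ≫ p)
    (hy : ∀ y : M →ₐ[B] Ω, y.comp (IsScalarTower.toAlgHom B E M) = ρ → mp sB y ≫ k = mp sB y ≫ k') :
    ∃ f : E, ρ f ≠ 0 ∧ ∀ (M' : Type u) [CommRing M'] [Algebra B M'] (φ : M →ₐ[B] M'),
      IsUnit (φ (algebraMap E M f)) → mp sB φ ≫ k = mp sB φ ≫ k' := by
  obtain ⟨D, hD, hD'⟩ := exists_open_eq hp k k' hk
  have : Algebra.IsIntegral E M := Algebra.IsIntegral.of_finite E M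
  let D' : Set (PrimeSpectrum M) := SetLike.coe D
  have hclosed : IsClosed (PrimeSpectrum.comap (algebraMap E M) '' D'ᶜ) :=
    PrimeSpectrum.isClosedMap_comap_of_isIntegral _ (algebraMap_isIntegral_iff.2 ‹_›) _ D.isOpen.isClosed_compl
  let e : PrimeSpectrum E := ⟨RingHom.ker ρ.toRingHom, RingHom.ker_isPrime _⟩
  have he : e ∈ (PrimeSpectrum.comap (algebraMap E M) '' D'ᶜ)ᶜ := by
    rintro ⟨q, hq, hqe⟩
    obtain ⟨y, hy₁, hy₂⟩ := exists_extension_ker ρ.toRingHom q.asIdeal (congrArg PrimeSpectrum.asIdeal hqe)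
    let y' : M →ₐ[B] Ω :=
      { __ := y
        commutes' := fun b => by
          rw [IsScalarTower.algebraMap_apply B E M]
          exact (RingHom.congr_fun hy₁ _).trans (ρ.commutes b) }
    have h1 := hD (mp sB y') (hy y' (AlgHom.ext fun x => RingHom.congr_fun hy₁ x))
    let z : Spec (CommRingCat.of Ω) := default
    have h2 : (Spec.map (CommRingCat.ofHom y)).base z = q := by
      refine PrimeSpectrum.ext ?_
      change Ideal.comap y z.asIdeal = _
      rw [(Ideal.eq_bot_or_top z.asIdeal).resolve_right z.2.ne_top]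
      exact hy₂
    exact hq (h2 ▸ h1 ⟨z, rfl⟩ : q ∈ D')
  obtain ⟨_, ⟨f, rfl⟩, hef, hf⟩ := PrimeSpectrum.isTopologicalBasis_basic_opens.exists_subset_of_mem_open he
    hclosed.isOpen_compl
  refine ⟨f, hef, fun M' _ _ φ hu => hD' _ ?_⟩
  rintro _ ⟨z, rfl⟩
  by_contra hz
  refine hf (show f ∉ (PrimeSpectrum.comap (algebraMap E M) ((Spec.map (CommRingCat.ofHom φ.toRingHom)).base z)).asIdeal
    from fun hmem => z.2.ne_top (Ideal.eq_top_of_isUnit_mem _ hmem hu)) ⟨_, hz, rfl⟩

/-- Maps to an algebraic space are detected after a finite injective ring map. -/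
theorem ext_of_finite (hN : IsAlgSpace N) {E M : Type u} [CommRing E] [Algebra B E] [CommRing M] [Algebra B M]
    [Algebra E M] [IsScalarTower B E M] [Module.Finite E M] (hinj : Function.Injective (algebraMap E M))
    (χ χ' : (yon S).obj (ob sB E) ⟶ N)
    (h : (yon S).map (mp sB (IsScalarTower.toAlgHom B E M)) ≫ χ =
      (yon S).map (mp sB (IsScalarTower.toAlgHom B E M)) ≫ χ') : χ = χ' := by
  have : Algebra.IsIntegral E M := Algebra.IsIntegral.of_finite E M
  have key : ∀ e : PrimeSpectrum E, ∃ (C : Type u) (_ : CommRing C) (_ : Algebra B C) (_ : Algebra E C)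
      (_ : IsScalarTower B E C) (_ : Algebra.Etale E C),
      e ∈ Set.range (PrimeSpectrum.comap (algebraMap E C)) ∧
      (yon S).map (mp sB (IsScalarTower.toAlgHom B E C)) ≫ χ =
        (yon S).map (mp sB (IsScalarTower.toAlgHom B E C)) ≫ χ' := by
    intro e
    let Ω := AlgebraicClosure e.asIdeal.ResidueField
    let ρ₀ : E →+* Ω := (algebraMap e.asIdeal.ResidueField Ω).comp (algebraMap E e.asIdeal.ResidueField)
    let : Algebra B Ω := (ρ₀.comp (algebraMap B E)).toAlgebra
    let ρ : E →ₐ[B] Ω := { __ := ρ₀, commutes' := fun _ => rfl }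
    have hρe : RingHom.ker ρ.toRingHom = e.asIdeal := by
      show RingHom.ker ρ₀ = _
      ext x
      simp [ρ₀, Ideal.algebraMap_residueField_eq_zero]
    obtain ⟨y₀, hy₀⟩ := exists_extension hinj ρ₀
    let y : M →ₐ[B] Ω :=
      { __ := y₀
        commutes' := fun b => by
          rw [IsScalarTower.algebraMap_apply B E M]
          exact RingHom.congr_fun hy₀ _ }
    have hyρ : mp sB y ≫ mp sB (IsScalarTower.toAlgHom B E M) = mp sB ρ := by
      rw [mp_comp]; congr 1; exact AlgHom.ext fun x => RingHom.congr_fun hy₀ x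
    have hn : (yon S).map (mp sB ρ) ≫ χ = (yon S).map (mp sB ρ) ≫ χ' := by
      rw [← hyρ, Functor.map_comp, Category.assoc, Category.assoc, h]
    obtain ⟨U, p, u, hp, _, -, hu⟩ := exists_affine_chart hN ((yon S).map (mp sB ρ) ≫ χ)
    obtain ⟨C₁, _, _, _, _, _, ρ₁, t₁, hρ₁, ht₁, hu₁⟩ := exists_lift_nhd sB hp χ ρ u hu
    obtain ⟨C₂, _, _, _, _, _, ρ₂, t₂, hρ₂, ht₂, hu₂⟩ := exists_lift_nhd sB hp
      ((yon S).map (mp sB (IsScalarTower.toAlgHom B E C₁)) ≫ χ') ρ₁ u (by
        rw [← Category.assoc, ← Functor.map_comp, mp_comp, hρ₁, ← hn, hu])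
    let : Algebra E C₂ := ((algebraMap C₁ C₂).comp (algebraMap E C₁)).toAlgebra
    have : IsScalarTower E C₁ C₂ := .of_algebraMap_eq fun _ => rfl
    have : Algebra.Etale E C₂ := Algebra.Etale.comp E C₁ C₂
    have : IsScalarTower B E C₂ := .of_algebraMap_eq fun b => by
      rw [IsScalarTower.algebraMap_apply B C₁ C₂, IsScalarTower.algebraMap_apply B E C₁]; rfl
    let a : ob sB C₂ ⟶ ob sB C₁ := mp sB (IsScalarTower.toAlgHom B C₁ C₂)
    have hcomp : a ≫ mp sB (IsScalarTower.toAlgHom B E C₁) = mp sB (IsScalarTower.toAlgHom B E C₂) := by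
      rw [mp_comp]; congr 1
    -- both lifts on the neighbourhood
    let t : ob sB C₂ ⟶ U := a ≫ t₁
    have ht : (yon S).map t ≫ p = (yon S).map (mp sB (IsScalarTower.toAlgHom B E C₂)) ≫ χ := by
      rw [Functor.map_comp, Category.assoc, ht₁, ← Category.assoc, ← Functor.map_comp, hcomp]
    have ht' : (yon S).map t₂ ≫ p = (yon S).map (mp sB (IsScalarTower.toAlgHom B E C₂)) ≫ χ' := by
      rw [ht₂, ← Category.assoc, ← Functor.map_comp, hcomp]
    let i : C₂ →ₐ[B] C₂ ⊗[E] M := IsScalarTower.toAlgHom B C₂ (C₂ ⊗[E] M)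
    let i' : M →ₐ[B] C₂ ⊗[E] M := (Algebra.TensorProduct.includeRight (R := E) (A := C₂) (B := M)).restrictScalars B
    have hii : mp sB i ≫ mp sB (IsScalarTower.toAlgHom B E C₂) = mp sB i' ≫ mp sB (IsScalarTower.toAlgHom B E M) := by
      rw [mp_comp, mp_comp]; congr 1
      exact AlgHom.ext fun x => by simp [i, i', Algebra.TensorProduct.algebraMap_apply]
    have hk : (yon S).map (mp sB i ≫ t) ≫ p = (yon S).map (mp sB i ≫ t₂) ≫ p := by
      rw [Functor.map_comp (yon S) (mp sB i) t, Functor.map_comp (yon S) (mp sB i) t₂, Category.assoc,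
        Category.assoc, ht, ht', ← Category.assoc,
        ← Category.assoc, ← Functor.map_comp, hii, Functor.map_comp, Category.assoc, Category.assoc, h]
    obtain ⟨f, hf, hf'⟩ := exists_shrink sB hp ρ₂ (mp sB i ≫ t) (mp sB i ≫ t₂) hk fun z hz => by
      have e1 : mp sB z ≫ mp sB i = mp sB ρ₂ := by
        rw [mp_comp]; congr 1
      rw [← Category.assoc (mp sB z) (mp sB i) t, ← Category.assoc (mp sB z) (mp sB i) t₂, e1, hu₂]
      show mp sB ρ₂ ≫ a ≫ t₁ = u
      rw [← Category.assoc, mp_comp, hρ₂, hu₁]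
    let C₃ := Localization.Away f
    have : Algebra.Etale C₂ C₃ := Algebra.Etale.of_isLocalizationAway f
    have : Algebra.Etale E C₃ := Algebra.Etale.comp E C₂ C₃
    let j : C₂ →ₐ[B] C₃ := IsScalarTower.toAlgHom B C₂ C₃
    let jj : C₂ ⊗[E] M →ₐ[B] C₃ ⊗[E] M :=
      (Algebra.TensorProduct.map (IsScalarTower.toAlgHom E C₂ C₃) (AlgHom.id E M)).restrictScalars B
    let i₃ : C₃ →ₐ[B] C₃ ⊗[E] M := IsScalarTower.toAlgHom B C₃ (C₃ ⊗[E] M)
    have hjj : mp sB jj ≫ mp sB i = mp sB i₃ ≫ mp sB j := by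
      rw [mp_comp, mp_comp]; congr 1
    have heq : mp sB jj ≫ (mp sB i ≫ t) = mp sB jj ≫ (mp sB i ≫ t₂) := by
      refine hf' _ jj ?_
      have : jj (algebraMap C₂ (C₂ ⊗[E] M) f) = algebraMap C₃ _ (algebraMap C₂ C₃ f) := by
        simp [jj, Algebra.TensorProduct.algebraMap_apply]
      rw [this]
      exact (IsLocalization.Away.algebraMap_isUnit f).map _
    have : Module.Flat E C₃ := inferInstance
    have hi₃ : Function.Injective i₃ :=
      Algebra.TensorProduct.includeLeft_injective (S := E) hinj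
    have htt : mp sB j ≫ t = mp sB j ≫ t₂ := by
      refine Over.OverMorphism.ext (cancel_affine (φ := CommRingCat.ofHom i₃.toRingHom) hi₃ _ _ ?_)
      refine congrArg CategoryTheory.Over.Hom.left (show mp sB i₃ ≫ mp sB j ≫ t = mp sB i₃ ≫ mp sB j ≫ t₂ from ?_)
      rw [← reassoc_of% hjj, ← reassoc_of% hjj, heq]
    refine ⟨C₃, inferInstance, inferInstance, inferInstance, inferInstance, inferInstance, ?_, ?_⟩
    · let ρ₃ : C₃ →+* Ω := IsLocalization.Away.lift f (g := ρ₂.toRingHom) (isUnit_iff_ne_zero.2 hf)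
      refine ⟨⟨RingHom.ker ρ₃, RingHom.ker_isPrime _⟩, PrimeSpectrum.ext ?_⟩
      show Ideal.comap _ (RingHom.ker ρ₃) = _
      rw [RingHom.comap_ker, IsScalarTower.algebraMap_eq E C₂ C₃, ← RingHom.comp_assoc,
        IsLocalization.Away.lift_comp]
      refine Eq.trans ?_ hρe
      rw [← hρ₁, ← hρ₂]
      rfl
    · have e3 : mp sB (IsScalarTower.toAlgHom B E C₃) = mp sB j ≫ mp sB (IsScalarTower.toAlgHom B E C₂) := by
        rw [mp_comp]; congr 1
      rw [e3, Functor.map_comp, Category.assoc, Category.assoc, ← ht, ← ht', ← Category.assoc, ← Category.assoc,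
        ← Functor.map_comp, ← Functor.map_comp, htt]
  choose C _ _ _ _ _ hC hχ using key
  refine hom_ext_of_etale_cover (fun e => ob sB (C e)) (fun e => mp sB (IsScalarTower.toAlgHom B E (C e)))
    (fun e => ?_) (fun x => ?_) hχ
  · exact (HasRingHomProperty.Spec_iff (P := @Etale)).mpr
      (RingHom.etale_algebraMap.mpr (inferInstanceAs (Algebra.Etale E (C e))))
  · obtain ⟨z, hz⟩ := hC x
    exact ⟨x, z, hz⟩

end Groth.Agent.ConstQuot49
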