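import Groth.Agent.ConstQuot49.Exist
import Groth.Prelude.Def_ConstAct

/-!
# The quotient of an affine scheme by a finite group after flat base change, in the spelling of `ConstAct`
-/

set_option autoImplicit false
set_option backward.isDefEq.respectTransparency false
set_option backward.isDefEq.respectTransparency.types false

universe u

open CategoryTheory CategoryTheory.Limits AlgebraicGeometry Opposite AlgSp Groth.Agent.AlgSpLib
open scoped TensorProduct

namespace Groth.Agent.ConstQuot49

variable {S : Scheme.{u}} {N : Sp S}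

/-- Transport of a unique factorization along isomorphisms. -/
theorem existsUnique_conj {X X' Y Y' : Over S} (eX : X ≅ X') (eY : Y ≅ Y') (q : X ⟶ Y) (q' : X' ⟶ Y')
    (hq : q ≫ eY.hom = eX.hom ≫ q') (h' : (yon S).obj X' ⟶ N)
    (H : ∃! χ : (yon S).obj Y ⟶ N, (yon S).map q ≫ χ = (yon S).map eX.hom ≫ h') :
    ∃! χ : (yon S).obj Y' ⟶ N, (yon S).map q' ≫ χ = h' := by
  obtain ⟨c, hc, hu⟩ := H
  have key : ∀ χ : (yon S).obj Y' ⟶ N, (yon S).map q' ≫ χ = h' ↔
      (yon S).map q ≫ (yon S).map eY.hom ≫ χ = (yon S).map eX.hom ≫ h' := fun χ => by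
    rw [← Category.assoc, ← Functor.map_comp, hq, Functor.map_comp, Category.assoc, cancel_epi]
  refine ⟨(yon S).map eY.inv ≫ c, (key _).2 ?_, fun d hd => ?_⟩
  · rw [← Category.assoc ((yon S).map eY.hom), ← Functor.map_comp, Iso.hom_inv_id, CategoryTheory.Functor.map_id,
      Category.id_comp]
    exact hc
  · rw [← hu _ ((key d).1 hd), ← Category.assoc, ← Functor.map_comp, Iso.inv_hom_id, CategoryTheory.Functor.map_id,
      Category.id_comp]

/-- Equal structure morphisms give isomorphic objects. -/
def overId {X : Scheme.{u}} {f g : X ⟶ S} (h : f = g) : Over.mk f ≅ Over.mk g :=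
  Over.isoMk (Iso.refl X) ((Category.id_comp g).trans h.symm)

theorem comp_overId_eq {X Y : Scheme.{u}} {f g : X ⟶ S} (h : f = g) {f' g' : Y ⟶ S} (h' : f' = g')
    (a : Over.mk f ⟶ Over.mk f') (b : Over.mk g ⟶ Over.mk g') (l : X ⟶ Y) (ha : a.left = l) (hb : b.left = l) :
    a ≫ (overId h').hom = (overId h).hom ≫ b := by
  refine Over.OverMorphism.ext ?_
  exact (congrArg (fun t : X ⟶ Y => t ≫ 𝟙 Y) ha).trans ((Category.comp_id l).trans
    ((Category.id_comp l).symm.trans (congrArg (fun t : X ⟶ Y => 𝟙 X ≫ t) hb.symm)))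

variable {B A : Type u} [CommRing B] [CommRing A] [Algebra B A] (sB : Spec (CommRingCat.of B) ⟶ S)
  {G : Type u} [Group G] [MulSemiringAction G A] [SMulCommClass G B A]

theorem smul_comm_finite_invariant (E : Type u) [CommRing E] [Algebra B E] (g g' : G) :
    tAct (B := B) (A := A) E (g * g') = (tAct E g).comp (tAct E g') :=
  Algebra.TensorProduct.ext (AlgHom.ext fun e => by simp [tAct])
    (AlgHom.ext fun a => by simp [tAct, mul_smul])

/-- Rebasing the spectrum of an algebra over an algebra. -/
noncomputable def reOb (E T : Type u) [CommRing E] [Algebra B E] [CommRing T] [Algebra B T] [Algebra E T]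
    [IsScalarTower B E T] : ob (ob sB E).hom T ≅ ob sB T where
  hom := Over.homMk (𝟙 (Spec (CommRingCat.of T))) (by
    refine (Category.id_comp _).trans ?_
    show Spec.map (CommRingCat.ofHom (algebraMap B T)) ≫ sB =
      Spec.map (CommRingCat.ofHom (algebraMap E T)) ≫ Spec.map (CommRingCat.ofHom (algebraMap B E)) ≫ sB
    rw [← Spec.map_comp_assoc, ← CommRingCat.ofHom_comp, ← IsScalarTower.algebraMap_eq B E T])
  inv := Over.homMk (𝟙 (Spec (CommRingCat.of T))) (by
    refine (Category.id_comp _).trans ?_
    show Spec.map (CommRingCat.ofHom (algebraMap E T)) ≫ Spec.map (CommRingCat.ofHom (algebraMap B E)) ≫ sB =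
      Spec.map (CommRingCat.ofHom (algebraMap B T)) ≫ sB
    rw [← Spec.map_comp_assoc, ← CommRingCat.ofHom_comp, ← IsScalarTower.algebraMap_eq B E T])
  hom_inv_id := Over.OverMorphism.ext (Category.id_comp _)
  inv_hom_id := Over.OverMorphism.ext (Category.id_comp _)

/-- An invariant map factors uniquely after a flat base change of the invariants. -/
theorem existsUnique_factor_flat [Finite G] [Algebra.IsInvariant B A G] [Module.Finite B A]
    (hinj : Function.Injective (algebraMap B A)) (hN : IsAlgSpace N) (E : Type u) [CommRing E] [Algebra B E]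
    [Module.Flat B E] (h : (yon S).obj (ob sB (E ⊗[B] A)) ⟶ N)
    (hinv : ∀ g : G, (yon S).map (mp sB (tAct E g)) ≫ h = h) :
    ∃! χ : (yon S).obj (ob sB E) ⟶ N,
      (yon S).map (mp sB (Algebra.TensorProduct.includeLeft (R := B) (S := B) (A := E) (B := A))) ≫ χ = h := by
  let φ : G → (E ⊗[B] A →ₐ[E] E ⊗[B] A) := fun g =>
    Algebra.TensorProduct.map (AlgHom.id E E) (MulSemiringAction.toAlgEquiv B A g).toAlgHom
  have hφ : ∀ g z, φ g z = tAct E g z := fun g z => rfl
  have h1 : ∀ z, tAct E (1 : G) z = z := fun z => by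
    have : tAct (B := B) (A := A) E (1 : G) = AlgHom.id B _ :=
      Algebra.TensorProduct.ext (AlgHom.ext fun e => by simp [tAct]) (AlgHom.ext fun a => by simp [tAct])
    rw [this]; rfl
  let : MulSemiringAction G (E ⊗[B] A) :=
    { smul := fun g z => tAct E g z
      one_smul := h1
      mul_smul := fun g g' z => AlgHom.congr_fun (smul_comm_finite_invariant E g g') z
      smul_zero := fun g => map_zero (tAct E g)
      smul_add := fun g => map_add (tAct E g)
      smul_one := fun g => map_one (tAct E g)
      smul_mul := fun g => map_mul (tAct E g) }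
  have : SMulCommClass G E (E ⊗[B] A) := ⟨fun g e z => map_smul (φ g) e z⟩
  have : Algebra.IsInvariant E (E ⊗[B] A) G := ⟨fun z hz => mem_range_of_fixed E z hz⟩
  let sE := (ob sB E).hom
  let eX : ob sE (E ⊗[B] A) ≅ ob sB (E ⊗[B] A) := reOb sB E (E ⊗[B] A)
  let eY : ob sE E ≅ ob sB E := reOb sB E E
  refine existsUnique_conj eX eY (mp sE (Algebra.ofId E (E ⊗[B] A))) _ ?_ h ?_
  · refine Over.OverMorphism.ext ?_
    show Spec.map _ ≫ 𝟙 _ = 𝟙 _ ≫ Spec.map _
    rw [Category.comp_id, Category.id_comp]
    rfl
  · refine existsUnique_factor sE _ (Algebra.TensorProduct.includeLeft_injective (S := B) hinj) hN (G := G) fun g => ?_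
    rw [← Category.assoc, ← Functor.map_comp,
      show mp sE (MulSemiringAction.toAlgEquiv E (E ⊗[B] A) g).toAlgHom ≫ eX.hom = eX.hom ≫ mp sB (tAct E g) from
        Over.OverMorphism.ext (by
          show Spec.map _ ≫ 𝟙 _ = 𝟙 _ ≫ Spec.map _
          rw [Category.comp_id, Category.id_comp]
          rfl),
      Functor.map_comp, Category.assoc, hinv g]

section ConstAct

variable (R : Type u) [CommRing R] (A : Type u) [CommRing A] [Algebra R A]
  (G : Type u) [Group G] [MulSemiringAction G A] [SMulCommClass G R A]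

instance smulCommClass_inv : SMulCommClass G (ConstAct.inv R A G) A :=
  ⟨fun g b a => by
    rw [Subalgebra.smul_def, Subalgebra.smul_def, smul_eq_mul, smul_eq_mul, smul_mul', b.2 g]⟩

instance isInvariant_inv : Algebra.IsInvariant (ConstAct.inv R A G) A G :=
  ⟨fun a h => ⟨⟨a, h⟩, rfl⟩⟩

theorem finite_inv [Finite G] [Algebra.FiniteType R A] : Module.Finite (ConstAct.inv R A G) A :=
  have : Algebra.IsIntegral (ConstAct.inv R A G) A := Algebra.IsInvariant.isIntegral _ A G
  have : Algebra.FiniteType (ConstAct.inv R A G) A := Algebra.FiniteType.of_restrictScalars_finiteType R _ A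
  Algebra.IsIntegral.finite

/-- The structure map of the spectrum of the invariants. -/
noncomputable abbrev sInv : Spec (CommRingCat.of (ConstAct.inv R A G)) ⟶ Spec (CommRingCat.of R) :=
  Spec.map (CommRingCat.ofHom (algebraMap R (ConstAct.inv R A G)))

theorem spec_inv_hom (T : Type u) [CommRing T] [Algebra R T] [Algebra (ConstAct.inv R A G) T]
    [IsScalarTower R (ConstAct.inv R A G) T] :
    Spec.map (CommRingCat.ofHom (algebraMap (ConstAct.inv R A G) T)) ≫ sInv R A G =
      Spec.map (CommRingCat.ofHom (algebraMap R T)) := by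
  rw [IsScalarTower.algebraMap_eq R (ConstAct.inv R A G) T, CommRingCat.ofHom_comp, Spec.map_comp]

theorem spec_self_hom :
    Spec.map (CommRingCat.ofHom (algebraMap (ConstAct.inv R A G) (ConstAct.inv R A G))) ≫ sInv R A G =
      sInv R A G := by
  rw [Algebra.algebraMap_self, CommRingCat.ofHom_id, Spec.map_id, Category.id_comp]

theorem quot_left :
    (ConstAct.quot R A G).left = Spec.map (CommRingCat.ofHom (algebraMap (ConstAct.inv R A G) A)) := by
  rw [ConstAct.quot]
  exact congrArg (fun r => Spec.map (CommRingCat.ofHom r)) (RingHom.ext fun x => rfl)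

variable {R A G}

/-- An invariant map from `Spec A` to an algebraic space factors uniquely through `Spec A^G`. -/
theorem existsUnique_quot [Finite G] [Algebra.FiniteType R A] {N : Sp (Spec (CommRingCat.of R))} (hN : IsAlgSpace N)
    (h : (yon _).obj (ConstAct.specA R A) ⟶ N) (hinv : ∀ g : G, (yon _).map (ConstAct.act R A G g) ≫ h = h) :
    ∃! χ : (yon _).obj (ConstAct.specInv R A G) ⟶ N, (yon _).map (ConstAct.quot R A G) ≫ χ = h := by
  have := finite_inv R A G
  refine existsUnique_conj (overId (spec_inv_hom R A G A)) (overId (spec_self_hom R A G)) (mp (sInv R A G) (Algebra.ofId _ A)) _ ?_ h ?_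
  · exact comp_overId_eq (spec_inv_hom R A G A) (spec_self_hom R A G)
      (mp (sInv R A G) (Algebra.ofId (ConstAct.inv R A G) A)) (ConstAct.quot R A G)
      (Spec.map (CommRingCat.ofHom (algebraMap (ConstAct.inv R A G) A)))
      ((mp_left (sInv R A G) (Algebra.ofId (ConstAct.inv R A G) A)).trans (congrArg (fun r => Spec.map (CommRingCat.ofHom r))
        (RingHom.ext fun x => rfl))) (quot_left R A G)
  · refine existsUnique_factor (sInv R A G) _ Subtype.val_injective hN (G := G) fun g => ?_
    rw [← Category.assoc, ← Functor.map_comp,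
      show mp (sInv R A G) (MulSemiringAction.toAlgEquiv (ConstAct.inv R A G) A g).toAlgHom ≫
          (overId (spec_inv_hom R A G A)).hom = (overId (spec_inv_hom R A G A)).hom ≫ ConstAct.act R A G g from
        comp_overId_eq (spec_inv_hom R A G A) (spec_inv_hom R A G A) _ (ConstAct.act R A G g)
          (Spec.map (CommRingCat.ofHom (MulSemiringAction.toRingHom G A g)))
          ((mp_left (sInv R A G) _).trans (congrArg (fun r => Spec.map (CommRingCat.ofHom r))
            (RingHom.ext fun x => rfl))) (ConstAct.act_left R A G g),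
      Functor.map_comp, Category.assoc, hinv g]

end ConstAct

end Groth.Agent.ConstQuot49
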