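import Groth.Agent.ConstQuot49.FlatStack

/-!
# Flat affine base changes of `[Spec A / G] ⟶ Spec A^G`
-/

set_option autoImplicit false
set_option backward.isDefEq.respectTransparency false
set_option backward.isDefEq.respectTransparency.types false

universe u

open CategoryTheory CategoryTheory.Functor CategoryTheory.Limits MonoidalCategory CartesianMonoidalCategory
  AlgebraicGeometry Opposite AlgSp Groth.Agent.FibBase Groth.Agent.AlgSpLib Groth.Agent.AlgStLib Groth.Agent.QuotLib
open scoped TensorProduct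

namespace Groth.Agent.ConstQuot49

/-- An isomorphism of the underlying schemes compatible with the structure maps. -/
noncomputable def overOfIso {S X : Scheme.{u}} {f : X ⟶ S} (Y : Over S) (e : X ≅ Y.left) (h : e.hom ≫ Y.hom = f) :
    Over.mk f ≅ Y :=
  Over.isoMk e h

theorem overOfIso_left {S X : Scheme.{u}} {f : X ⟶ S} (Y : Over S) (e : X ≅ Y.left) (h : e.hom ≫ Y.hom = f) :
    (overOfIso Y e h).hom.left = e.hom := rfl

variable {R : Type u} [CommRing R] {A : Type u} [CommRing A] [Algebra R A]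
  {G : Type u} [Group G] [Fintype G] [DecidableEq G] [MulSemiringAction G A] [SMulCommClass G R A]

/-- Points of the invariants over algebraically closed fields lift to `Spec A`. -/
theorem exists_point_lift [Algebra.FiniteType R A] (Ω : Type u) [Field Ω] [IsAlgClosed Ω]
    (t : Spec (CommRingCat.of Ω) ⟶ Spec (CommRingCat.of R)) (m : Over.mk t ⟶ ConstAct.specInv R A G) :
    ∃ x : Over.mk t ⟶ ConstAct.specA R A, x ≫ ConstAct.quot R A G = m := by
  have := finite_inv R A G
  have : Algebra.IsIntegral (ConstAct.inv R A G) A := Algebra.IsIntegral.of_finite _ A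
  obtain ⟨φ, hφ⟩ : ∃ φ : CommRingCat.of (ConstAct.inv R A G) ⟶ CommRingCat.of Ω, Spec.map φ = m.left :=
    Spec.map_surjective _
  obtain ⟨x₀, hx₀⟩ := exists_extension (A := A) Subtype.val_injective φ.hom
  have hl : Spec.map (CommRingCat.ofHom x₀) ≫ (ConstAct.quot R A G).left = m.left := by
    rw [quot_left R A G, ← Spec.map_comp, ← hφ, ← CommRingCat.ofHom_comp, hx₀, CommRingCat.ofHom_hom]
  refine ⟨Over.homMk (Spec.map (CommRingCat.ofHom x₀)) ?_, Over.OverMorphism.ext hl⟩
  rw [← Over.w (ConstAct.quot R A G), ← Category.assoc, hl]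
  exact Over.w m

variable {π : ConstAct.quotSt R A G Scheme.fppfPrecoverage ⥤ᵇ AlgSt.ofSch (ConstAct.specInv R A G)}
  (hπ : BasedFunctor.comp
      (AlgSt.quotMap Scheme.fppfPrecoverage (ConstAct.GR R G) (ConstAct.gaction R A G)) π =
    AlgSt.ofSpMap ((AlgSp.yon (Spec (CommRingCat.of R))).map (ConstAct.quot R A G)))

attribute [local instance] flat_GR lfp_GR

/-- An affine model of the fibre product of `Spec A` with a flat affine scheme over the invariants. -/
theorem exists_model [Algebra.FiniteType R A] {Y' : Over (Spec (CommRingCat.of R))} [IsAffine Y'.left]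
    (g : Y' ⟶ ConstAct.specInv R A G) [Flat g.left] :
    ∃ (P : Over (Spec (CommRingCat.of R))) (a : P ⟶ Y') (b : P ⟶ ConstAct.X R A) (σ : G → (P ⟶ P)),
      a ≫ g = b ≫ ConstAct.quot R A G ∧ (∀ k, σ k ≫ a = a) ∧ (∀ k, σ k ≫ b = b ≫ ConstAct.act R A G k) ∧
      (∀ {T : Over (Spec (CommRingCat.of R))} (y : T ⟶ Y') (x : T ⟶ ConstAct.X R A),
        y ≫ g = x ≫ ConstAct.quot R A G → ∃ z : T ⟶ P, z ≫ a = y ∧ z ≫ b = x) ∧
      ∀ (N : Sp (Spec (CommRingCat.of R))), IsAlgSpace N → ∀ h : (yon _).obj P ⟶ N,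
        (∀ k, (yon _).map (σ k) ≫ h = h) → ∃! χ : (yon _).obj Y' ⟶ N, (yon _).map a ≫ χ = h := by
  have := finite_inv R A G
  let E : Type u := Γ(Y'.left, ⊤)
  obtain ⟨φ, hφ⟩ : ∃ φ : CommRingCat.of (ConstAct.inv R A G) ⟶ Γ(Y'.left, ⊤),
      Spec.map φ = Y'.left.isoSpec.inv ≫ g.left := Spec.map_surjective _
  let : Algebra (ConstAct.inv R A G) E := φ.hom.toAlgebra
  have : Module.Flat (ConstAct.inv R A G) E := by
    have h1 : Flat (Spec.map φ) := by rw [hφ]; exact MorphismProperty.comp_mem _ _ _ inferInstance inferInstance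
    exact RingHom.flat_algebraMap_iff.mp ((HasRingHomProperty.Spec_iff (P := @Flat)).mp h1)
  have hαE : Spec.map (CommRingCat.ofHom (algebraMap (ConstAct.inv R A G) E)) = Y'.left.isoSpec.inv ≫ g.left := hφ
  let eY : ob (sInv R A G) E ≅ Y' := overOfIso Y' Y'.left.isoSpec.symm (by
    rw [hαE, Category.assoc, show g.left ≫ sInv R A G = Y'.hom from Over.w g]
    rfl)
  let eA : ob (sInv R A G) A ≅ ConstAct.specA R A := overId (spec_inv_hom R A G A)
  let P : Over (Spec (CommRingCat.of R)) := ob (sInv R A G) (E ⊗[ConstAct.inv R A G] A)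
  let iL : E →ₐ[ConstAct.inv R A G] E ⊗[ConstAct.inv R A G] A :=
    Algebra.TensorProduct.includeLeft (R := ConstAct.inv R A G) (S := ConstAct.inv R A G)
  let iR : A →ₐ[ConstAct.inv R A G] E ⊗[ConstAct.inv R A G] A := Algebra.TensorProduct.includeRight
  let a : P ⟶ Y' := mp (sInv R A G) iL ≫ eY.hom
  let b : P ⟶ ConstAct.X R A := mp (sInv R A G) iR ≫ eA.hom
  have ha : a.left = Spec.map (CommRingCat.ofHom iL.toRingHom) ≫ Y'.left.isoSpec.inv := rfl
  have hb : b.left = Spec.map (CommRingCat.ofHom iR.toRingHom) := Category.comp_id _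
  have w : a ≫ g = b ≫ ConstAct.quot R A G := by
    refine Over.OverMorphism.ext ?_
    show a.left ≫ g.left = b.left ≫ (ConstAct.quot R A G).left
    rw [ha, Category.assoc, ← hαE, ← Spec.map_comp]
    refine Eq.trans ?_ (congrArg₂ (fun (u : _ ⟶ _) (v : _ ⟶ _) => u ≫ v) hb.symm (quot_left R A G).symm)
    rw [← Spec.map_comp]
    exact congrArg Spec.map (CommRingCat.hom_ext
      ((AlgHom.comp_algebraMap iL).trans (AlgHom.comp_algebraMap iR).symm))
  have hlift : ∀ {T : Over (Spec (CommRingCat.of R))} (y : T ⟶ Y') (x : T ⟶ ConstAct.X R A),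
      y ≫ g = x ≫ ConstAct.quot R A G → ∃ z : T ⟶ P, z ≫ a = y ∧ z ≫ b = x := by
    intro T y x hyx
    have hc : (y.left ≫ Y'.left.isoSpec.hom) ≫ Spec.map (CommRingCat.ofHom (algebraMap (ConstAct.inv R A G) E)) =
        x.left ≫ Spec.map (CommRingCat.ofHom (algebraMap (ConstAct.inv R A G) A)) := by
      rw [hαE, Category.assoc, Iso.hom_inv_id_assoc, ← quot_left R A G]
      exact congrArg CategoryTheory.Over.Hom.left hyx
    let l : T.left ⟶ Spec (CommRingCat.of (E ⊗[ConstAct.inv R A G] A)) :=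
      pullback.lift (y.left ≫ Y'.left.isoSpec.hom) x.left hc ≫ (pullbackSpecIso (ConstAct.inv R A G) E A).hom
    have h1 : l ≫ Spec.map (CommRingCat.ofHom iL.toRingHom) = y.left ≫ Y'.left.isoSpec.hom := by
      show (pullback.lift (y.left ≫ Y'.left.isoSpec.hom) x.left hc ≫ _) ≫ Spec.map (CommRingCat.ofHom
        (Algebra.TensorProduct.includeLeftRingHom (R := ConstAct.inv R A G) (A := E) (B := A))) = _
      exact (Category.assoc _ _ _).trans ((congrArg (_ ≫ ·) (pullbackSpecIso_hom_fst _ _ _)).trans (pullback.lift_fst _ _ _))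
    have h2 : l ≫ Spec.map (CommRingCat.ofHom iR.toRingHom) = x.left := by
      show (pullback.lift (y.left ≫ Y'.left.isoSpec.hom) x.left hc ≫ _) ≫ Spec.map (CommRingCat.ofHom
        (Algebra.TensorProduct.includeRight (R := ConstAct.inv R A G) (A := E) (B := A)).toRingHom) = _
      exact (Category.assoc _ _ _).trans ((congrArg (_ ≫ ·) (pullbackSpecIso_hom_snd _ _ _)).trans (pullback.lift_snd _ _ _))
    have hza : l ≫ a.left = y.left := by
      rw [ha, ← Category.assoc, h1, Category.assoc, Iso.hom_inv_id, Category.comp_id]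
    let z : T ⟶ P := Over.homMk l (by
      rw [← Over.w a, ← Category.assoc, hza]
      exact Over.w y)
    exact ⟨z, Over.OverMorphism.ext hza, Over.OverMorphism.ext (by
      show l ≫ b.left = x.left
      rw [hb, h2])⟩
  let σ : G → (P ⟶ P) := fun k => mp (sInv R A G) (tAct E k)
  have hσa : ∀ k, σ k ≫ a = a := fun k => by
    show mp _ _ ≫ mp _ _ ≫ eY.hom = mp _ _ ≫ eY.hom
    rw [← Category.assoc, mp_comp,
      show (tAct (A := A) E k).comp iL = iL from AlgHom.ext fun e => by simp [tAct, iL]]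
  have hσb : ∀ k, b ≫ ConstAct.act R A G k = σ k ≫ b := fun k => by
    refine Over.OverMorphism.ext ?_
    show b.left ≫ (ConstAct.act R A G k).left = (σ k).left ≫ b.left
    rw [show (σ k).left = Spec.map (CommRingCat.ofHom (tAct E k).toRingHom) from mp_left _ _, hb, ConstAct.act_left,
      ← Spec.map_comp, ← Spec.map_comp]
    exact congrArg Spec.map (CommRingCat.hom_ext (RingHom.ext fun x => by simp [tAct, iR]))
  have H : ∀ (N : Sp (Spec (CommRingCat.of R))), IsAlgSpace N → ∀ h : (yon _).obj P ⟶ N,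
      (∀ k, (yon _).map (σ k) ≫ h = h) → ∃! χ : (yon _).obj Y' ⟶ N, (yon _).map a ≫ χ = h := fun N hN h hh =>
    existsUnique_conj (Iso.refl P) eY (mp (sInv R A G) iL) a (Category.id_comp a).symm h (by
      simp only [Iso.refl_hom, CategoryTheory.Functor.map_id, Category.id_comp]
      exact existsUnique_factor_flat (sInv R A G) Subtype.val_injective hN E h hh)
  exact ⟨P, a, b, σ, w, hσa, fun k => (hσb k).symm, hlift, H⟩

include hπ in
/-- Flat affine base changes of the quotient map are coarse moduli spaces. -/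
theorem isCoarseModuli_fpFst [Algebra.FiniteType R A] {Y' : Over (Spec (CommRingCat.of R))} [IsAffine Y'.left]
    (g : Y' ⟶ ConstAct.specInv R A G) [Flat g.left] :
    AlgSt.IsCoarseModuli (FibCat.fpFst (AlgSt.ofSpMap ((AlgSp.yon (Spec (CommRingCat.of R))).map g)) π) := by
  obtain ⟨P, a, b, σ, w, hσa, hσb, hlift, H⟩ := exists_model g
  exact ⟨isCatModuli_fpFst (restrHom_π hπ) a b w hlift G σ
      (fun k => b ≫ CoactBr.pt (ConstAct.constPt R G (K := A) k⁻¹)) hσa
      (fun k => by rw [constPt_act, inv_inv, hσb]) H,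
    geomPtBij_fpFst (restrHom_π hπ) a b w hlift (geomPtBij hπ) fun Ω _ _ t m => exists_point_lift Ω t m⟩

end Groth.Agent.ConstQuot49
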