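import Groth.Agent.ConstQuot49.Stack
import Groth.Agent.AlgStLib.CatModuliLocal

/-!
# Base changes of a map from a quotient stack to a scheme
-/

set_option autoImplicit false
set_option backward.isDefEq.respectTransparency false
set_option backward.isDefEq.respectTransparency.types false

universe u

open CategoryTheory CategoryTheory.Functor CategoryTheory.Limits MonoidalCategory CartesianMonoidalCategory
  AlgebraicGeometry Opposite AlgSp Groth.Agent.FibBase Groth.Agent.AlgSpLib Groth.Agent.AlgStLib Groth.Agent.QuotLib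

namespace Groth.Agent.ConstQuot49

variable {S : Scheme.{u}} {G : Over S} [GrpObj G] {X Y M Xg : Over S} {aX : AlgGrp.Action G X}
  {π : AlgSt.QuotSt Scheme.fppfPrecoverage G aX ⥤ᵇ AlgSt.ofSch M} {q : X ⟶ M} (hq : restrHom π = (yon S).map q)
  {g : Y ⟶ M} (a : Xg ⟶ Y) (b : Xg ⟶ X) (w : a ≫ g = b ≫ q)

local notation "K₀" => Scheme.fppfPrecoverage

/-- The chart of the base change. -/
noncomputable def chart : AlgSt.ofSch Xg ⥤ᵇ (FibCat.fp (AlgSt.ofSpMap ((yon S).map g)) π) :=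
  FibCat.fpLift (AlgSt.ofSpMap ((yon S).map a))
    (BasedFunctor.comp (AlgSt.ofSpMap ((yon S).map b)) (AlgSt.quotMap K₀ G aX))
    (pshIso _ _ fun u => by
      obtain ⟨T, ⟨x⟩⟩ := u
      have h1 : secAt (BasedFunctor.comp (AlgSt.ofSpMap ((yon S).map a)) (AlgSt.ofSpMap ((yon S).map g)))
          (⟨T, ⟨x⟩⟩ : (AlgSt.ofSch Xg).obj) = ⟨(x ≫ a) ≫ g⟩ :=
        res_id ((yon S).obj M).obj _ rfl _
      have h2 : secAt (BasedFunctor.comp (BasedFunctor.comp (AlgSt.ofSpMap ((yon S).map b)) (AlgSt.quotMap K₀ G aX)) π)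
          (⟨T, ⟨x⟩⟩ : (AlgSt.ofSch Xg).obj) = ⟨(x ≫ b) ≫ q⟩ := by
        have h3 : (restrHom π).hom.app (op T) ⟨x ≫ b⟩ = ⟨(x ≫ b) ≫ q⟩ := by rw [hq]; rfl
        rw [← h3, restrHom_app]
        rfl
      rw [h1, h2, Category.assoc, Category.assoc, w])

/-- A morphism out of a point of the chart. -/
theorem exists_hom {T : Over S} (x : T ⟶ Xg) (o : ((FibCat.fp (AlgSt.ofSpMap ((yon S).map g)) π)).obj) (r : T ⟶ o.obj.fst.base)
    (hr : r ≫ o.obj.fst.sec.down = x ≫ a) (k : triv K₀ G aX (x ≫ b) ⟶ o.obj.snd)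
    (hk : k.base ≫ eqToHom ((FibCat.fpSnd (AlgSt.ofSpMap ((yon S).map g)) π).w_obj o) = r) :
    ∃ φ : (chart hq a b w).obj ⟨T, ⟨x⟩⟩ ⟶ o, ((FibCat.fp (AlgSt.ofSpMap ((yon S).map g)) π)).p.map φ = r := by
  let h₁ : ((AlgSt.ofSpMap ((yon S).map a)).obj (⟨T, ⟨x⟩⟩ : (AlgSt.ofSch Xg).obj)) ⟶ o.obj.fst :=
    ⟨r, ULift.ext _ _ hr⟩
  let h₂ : ((BasedFunctor.comp (AlgSt.ofSpMap ((yon S).map b)) (AlgSt.quotMap K₀ G aX)).obj
      (⟨T, ⟨x⟩⟩ : (AlgSt.ofSch Xg).obj)) ⟶ o.obj.snd := k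
  refine ⟨ObjectProperty.homMk ⟨h₁, h₂, ?_⟩, rfl⟩
  refine Stk.EltObj.hom_ext ?_
  let c := (chart hq a b w).obj ⟨T, ⟨x⟩⟩
  have e1 := map_eq_of_isHomLift_id (p := (AlgSt.ofSch M).p) (S := o.obj.fst.base) o.property
  have e2 := map_eq_of_isHomLift_id (p := (AlgSt.ofSch M).p) (S := c.obj.fst.base) c.property
  have e3 : (π.map k).hom = eqToHom (π.w_obj _) ≫ k.base ≫ eqToHom (π.w_obj _).symm :=
    Functor.congr_hom π.w k
  show r ≫ o.obj.iso.hom.hom = c.obj.iso.hom.hom ≫ (π.map k).hom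
  rw [show o.obj.iso.hom.hom = _ from e1, show c.obj.iso.hom.hom = _ from e2, e3, ← hk]
  simp

variable [Flat G.hom] [LocallyOfFinitePresentation G.hom]
  (hlift : ∀ {T : Over S} (y : T ⟶ Y) (x : T ⟶ X), y ≫ g = x ≫ q → ∃ z : T ⟶ Xg, z ≫ a = y ∧ z ≫ b = x)

/-- The map of sheaves underlying a functor on the base change. -/
noncomputable def chartHom {N : Sp S} (Φ : (FibCat.fp (AlgSt.ofSpMap ((yon S).map g)) π) ⥤ᵇ AlgSt.ofSp N) : (yon S).obj Xg ⟶ N :=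
  spHom (BasedFunctor.comp (chart hq a b w) Φ)

theorem chartHom_app {N : Sp S} (Φ : (FibCat.fp (AlgSt.ofSpMap ((yon S).map g)) π) ⥤ᵇ AlgSt.ofSp N) {T : Over S} (x : T ⟶ Xg) :
    (chartHom hq a b w Φ).hom.app (op T) ⟨x⟩ = secAt Φ ((chart hq a b w).obj ⟨T, ⟨x⟩⟩) :=
  rfl

theorem chartHom_comp {N : Sp S} (χ : (yon S).obj Y ⟶ N) :
    chartHom hq a b w (BasedFunctor.comp (FibCat.fpFst (AlgSt.ofSpMap ((yon S).map g)) π) (AlgSt.ofSpMap χ)) =
      (yon S).map a ≫ χ := by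
  refine ObjectProperty.hom_ext _ ?_
  ext T ⟨x⟩
  refine (secAt_comp_ofPshMap _ χ.hom _).trans ?_
  exact congrArg (χ.hom.app _) (res_id ((yon S).obj Y).obj _ rfl _)

include hlift in
theorem secAt_eq_of_chartHom {N : Sp S} {Φ Ψ : (FibCat.fp (AlgSt.ofSpMap ((yon S).map g)) π) ⥤ᵇ AlgSt.ofSp N}
    (h : chartHom hq a b w Φ = chartHom hq a b w Ψ) (o : ((FibCat.fp (AlgSt.ofSpMap ((yon S).map g)) π)).obj) : secAt Φ o = secAt Ψ o := by
  let A := o.obj.snd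
  let hw : A.base = o.obj.fst.base := (FibCat.fpSnd (AlgSt.ofSpMap ((yon S).map g)) π).w_obj o
  let r : A.P ⟶ o.obj.fst.base := A.π ≫ eqToHom hw
  have hy : (r ≫ o.obj.fst.sec.down) ≫ g = A.φ ≫ q := by
    have h1 := secAt_eq_of_iso (FibCat.fpIso (AlgSt.ofSpMap ((yon S).map g)) π) o
    have h2 : secAt (BasedFunctor.comp (FibCat.fpFst (AlgSt.ofSpMap ((yon S).map g)) π) (AlgSt.ofSpMap ((yon S).map g))) o =
        ⟨o.obj.fst.sec.down ≫ g⟩ := res_id ((yon S).obj M).obj _ rfl _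
    rw [h2, CatModLocal.secAt_precomp] at h1
    let t := trivHom A (𝟙 A.P) A.φ (Category.id_comp _)
    have h3 := secAt_map π t
    have h4 : secAt π (triv K₀ G aX A.φ) = ⟨A.φ ≫ q⟩ := by
      rw [← restrHom_app, hq]; rfl
    rw [h4] at h3
    have h5 : A.π ≫ (secAt π A).down = A.φ ≫ q := by
      have := congrArg ULift.down h3
      exact (congrArg (fun z => z ≫ (secAt π A).down) (Category.id_comp A.π).symm).trans this
    have h6 : o.obj.fst.sec.down ≫ g = eqToHom hw.symm ≫ (secAt π A).down := congrArg ULift.down h1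
    rw [Category.assoc, h6, ← h5]
    simp [r]
  obtain ⟨z, hza, hzb⟩ := hlift (r ≫ o.obj.fst.sec.down) A.φ hy
  let k : triv K₀ G aX (z ≫ b) ⟶ A := trivHom A (𝟙 A.P) (z ≫ b) ((Category.id_comp _).trans hzb.symm)
  obtain ⟨φ, hφ⟩ := exists_hom hq a b w z o r hza.symm k (by
    show (𝟙 A.P ≫ A.π) ≫ eqToHom hw = r
    rw [Category.id_comp])
  have hcov : fppf r.left := by
    show fppf (A.π.left ≫ (eqToHom hw).left)
    exact (MorphismProperty.cancel_right_of_respectsIso (P := fppf) A.π.left (eqToHom hw).left).2 (fppf_π A)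
  refine (Presieve.isSeparatedFor_singleton.1 (isSheafFor_singleton_fppf N r hcov).isSeparatedFor) ?_
  have h1 := secAt_map Φ φ
  have h2 := secAt_map Ψ φ
  rw [hφ] at h1 h2
  refine h1.trans (Eq.trans ?_ h2.symm)
  exact congrArg (fun (m : (yon S).obj Xg ⟶ N) => m.hom.app (op A.P) ⟨z⟩) h

include hlift in
theorem nonempty_iso_fp_iff {N : Sp S} (Φ Ψ : (FibCat.fp (AlgSt.ofSpMap ((yon S).map g)) π) ⥤ᵇ AlgSt.ofSp N) :
    Nonempty (Φ ≅ Ψ) ↔ chartHom hq a b w Φ = chartHom hq a b w Ψ := by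
  refine ⟨fun ⟨e⟩ => ?_, fun h => ⟨pshIso _ _ fun o => secAt_eq_of_chartHom hq a b w hlift h o⟩⟩
  refine ObjectProperty.hom_ext _ ?_
  ext T ⟨z⟩
  exact secAt_eq_of_iso e _

/-- Lifts of the group action to the chart leave the underlying maps invariant. -/
theorem chartHom_invariant {N : Sp S} (Φ : (FibCat.fp (AlgSt.ofSpMap ((yon S).map g)) π) ⥤ᵇ AlgSt.ofSp N) (σ : Xg ⟶ Xg) (γ : Xg ⟶ G) (hσa : σ ≫ a = a)
    (hσb : lift γ b ≫ aX.act = σ ≫ b) : (yon S).map σ ≫ chartHom hq a b w Φ = chartHom hq a b w Φ := by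
  refine ObjectProperty.hom_ext _ ?_
  ext T ⟨x⟩
  show (chartHom hq a b w Φ).hom.app (op T.unop) ⟨x ≫ σ⟩ = (chartHom hq a b w Φ).hom.app (op T.unop) ⟨x⟩
  rw [chartHom_app, chartHom_app]
  have hx : lift (x ≫ γ) (𝟙 T.unop ≫ x ≫ b) ≫ aX.act = (x ≫ σ) ≫ b := by
    rw [Category.id_comp, ← comp_lift, Category.assoc, hσb, Category.assoc]
  obtain ⟨k, hk, -⟩ := (hom_triv_iff (K := K₀) (aX := aX) (𝟙 T.unop) ((x ≫ σ) ≫ b) (x ≫ b)).2 (x ≫ γ) hx
  obtain ⟨φ, hφ⟩ := exists_hom hq a b w (x ≫ σ) ((chart hq a b w).obj ⟨T.unop, ⟨x⟩⟩) (𝟙 T.unop)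
    (by rw [Category.assoc, hσa]; exact Category.id_comp _) k (by
      rw [hk]; exact (Category.id_comp _).trans rfl)
  have h1 := secAt_map Φ φ
  rw [hφ] at h1
  exact h1.symm.trans (res_id N.obj _ rfl _)

include hq w hlift in
/-- Criterion for the base change to be a categorical moduli space. -/
theorem isCatModuli_fpFst (ι : Type u) (σ : ι → (Xg ⟶ Xg)) (γ : ι → (Xg ⟶ G)) (hσa : ∀ i, σ i ≫ a = a)
    (hσb : ∀ i, lift (γ i) b ≫ aX.act = σ i ≫ b)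
    (H : ∀ (N : Sp S), IsAlgSpace N → ∀ h : (yon S).obj Xg ⟶ N, (∀ i, (yon S).map (σ i) ≫ h = h) →
      ∃! χ : (yon S).obj Y ⟶ N, (yon S).map a ≫ χ = h) :
    AlgSt.IsCatModuli (FibCat.fpFst (AlgSt.ofSpMap ((yon S).map g)) π) := by
  refine ⟨IsAlgSpace.yon_obj _, fun N hN Φ => ?_⟩
  simp only [nonempty_iso_fp_iff hq a b w hlift, chartHom_comp]
  exact H N hN _ fun i => chartHom_invariant hq a b w Φ (σ i) (γ i) (hσa i) (hσb i)

omit [Flat G.hom] [LocallyOfFinitePresentation G.hom] in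
/-- The section of the second component of a point of the base change. -/
theorem sec_snd (o : (FibCat.fp (AlgSt.ofSpMap ((yon S).map g)) π).obj) :
    o.obj.fst.sec.down ≫ g =
      eqToHom ((FibCat.fpSnd (AlgSt.ofSpMap ((yon S).map g)) π).w_obj o).symm ≫ (secAt π o.obj.snd).down := by
  have h1 := secAt_eq_of_iso (FibCat.fpIso (AlgSt.ofSpMap ((yon S).map g)) π) o
  have h2 : secAt (BasedFunctor.comp (FibCat.fpFst (AlgSt.ofSpMap ((yon S).map g)) π) (AlgSt.ofSpMap ((yon S).map g))) o =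
      ⟨o.obj.fst.sec.down ≫ g⟩ := res_id ((yon S).obj M).obj _ rfl _
  rw [CatModLocal.secAt_precomp (FibCat.fpSnd (AlgSt.ofSpMap ((yon S).map g)) π) π] at h1
  exact congrArg ULift.down (h2.symm.trans h1)

include hq a b w hlift in
/-- Geometric points of the base change. -/
theorem geomPtBij_fpFst (h : AlgSt.GeomPtBij π)
    (hsurj : ∀ (Ω : Type u) [Field Ω] [IsAlgClosed Ω] (t : Spec (CommRingCat.of Ω) ⟶ S) (m : Over.mk t ⟶ M),
      ∃ x : Over.mk t ⟶ X, x ≫ q = m) :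
    AlgSt.GeomPtBij (FibCat.fpFst (AlgSt.ofSpMap ((yon S).map g)) π) := by
  intro Ω _ _ t
  constructor
  · rintro ⟨m⟩
    obtain ⟨x, hx⟩ := hsurj Ω t (m ≫ g)
    obtain ⟨z, hza, -⟩ := hlift m x hx.symm
    refine ⟨⟨(chart hq a b w).obj ⟨Over.mk t, ⟨z⟩⟩, rfl⟩, ?_⟩
    rw [fibSec_eq]
    refine (res_id ((yon S).obj Y).obj _ rfl _).trans ?_
    exact (res_id ((yon S).obj Y).obj _ rfl _).trans (ULift.ext _ _ hza)
  · intro o₁ o₂ ho
    let F := FibCat.fpSnd (AlgSt.ofSpMap ((yon S).map g)) π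
    let z₁ : (AlgSt.QuotSt K₀ G aX).p.Fiber (Over.mk t) := ⟨o₁.1.obj.snd, (F.w_obj o₁.1).trans o₁.2⟩
    let z₂ : (AlgSt.QuotSt K₀ G aX).p.Fiber (Over.mk t) := ⟨o₂.1.obj.snd, (F.w_obj o₂.1).trans o₂.2⟩
    have key : ∀ o : ((FibCat.fp (AlgSt.ofSpMap ((yon S).map g)) π)).p.Fiber (Over.mk t), AlgSt.fibSec π (T := Over.mk t) ⟨o.1.obj.snd, (F.w_obj o.1).trans o.2⟩ =
        ⟨(AlgSt.fibSec (FibCat.fpFst (AlgSt.ofSpMap ((yon S).map g)) π) o).down ≫ g⟩ := by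
      rintro ⟨o, ho'⟩
      rw [fibSec_eq, fibSec_eq,
        show secAt (FibCat.fpFst (AlgSt.ofSpMap ((yon S).map g)) π) o = o.obj.fst.sec from
          res_id ((yon S).obj Y).obj _ rfl _]
      refine ULift.ext _ _ ?_
      show eqToHom ((F.w_obj o).trans ho').symm ≫ (secAt π o.obj.snd).down =
        (eqToHom ho'.symm ≫ o.obj.fst.sec.down) ≫ g
      rw [Category.assoc, sec_snd o, ← Category.assoc, eqToHom_trans]
    obtain ⟨e⟩ := (h Ω t).2 z₁ z₂ (by rw [key o₁, key o₂, ho])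
    let e₂ : o₁.1.obj.snd ≅ o₂.1.obj.snd := (Functor.Fiber.fiberInclusion).mapIso e
    let f : o₁.1.obj.fst.base ≅ o₂.1.obj.fst.base := eqToIso (o₁.2.trans o₂.2.symm)
    let e₁ : o₁.1.obj.fst ≅ o₂.1.obj.fst := eltIso f (by
      have h5 := congrArg (((yon S).obj Y).obj.map (eqToHom o₁.2).op) ho
      rw [fibSec_eq, fibSec_eq,
        show secAt (FibCat.fpFst (AlgSt.ofSpMap ((yon S).map g)) π) o₁.1 = o₁.1.obj.fst.sec from
          res_id ((yon S).obj Y).obj _ rfl _,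
        show secAt (FibCat.fpFst (AlgSt.ofSpMap ((yon S).map g)) π) o₂.1 = o₂.1.obj.fst.sec from
          res_id ((yon S).obj Y).obj _ rfl _] at h5
      refine Eq.trans ?_ (Eq.trans h5.symm ?_)
      · exact Eq.trans (res_congr _ (by simp [f]) _) (res_res ((yon S).obj Y).obj _ _ _).symm
      · exact (res_res ((yon S).obj Y).obj _ _ _).trans (res_id _ _ (eqToHom_trans _ _) _))
    refine fiber_iso o₁ o₂ (fpIsoMk e₁ e₂ ?_) (by rfl)
    refine Stk.EltObj.hom_ext ?_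
    have he := map_eq_of_isHomLift_id (p := (AlgSt.QuotSt K₀ G aX).p) (S := Over.mk t) (φ := e₂.hom)
      (inferInstanceAs ((AlgSt.QuotSt K₀ G aX).p.IsHomLift (𝟙 (Over.mk t)) (Functor.Fiber.fiberInclusion.map e.hom)))
    have e1 := map_eq_of_isHomLift_id (p := (AlgSt.ofSch M).p) (S := o₁.1.obj.fst.base) o₁.1.property
    have e2 := map_eq_of_isHomLift_id (p := (AlgSt.ofSch M).p) (S := o₂.1.obj.fst.base) o₂.1.property
    have e3 : (π.map e₂.hom).hom = eqToHom (π.w_obj _) ≫ e₂.hom.base ≫ eqToHom (π.w_obj _).symm :=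
      Functor.congr_hom π.w e₂.hom
    show f.hom ≫ o₂.1.obj.iso.hom.hom = o₁.1.obj.iso.hom.hom ≫ (π.map e₂.hom).hom
    rw [show o₁.1.obj.iso.hom.hom = _ from e1, show o₂.1.obj.iso.hom.hom = _ from e2, e3,
      show e₂.hom.base = _ from he]
    simp [f]

end Groth.Agent.ConstQuot49
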