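import Groth.Agent.ConstQuot49.Unit
import Groth.Agent.ArtinBoot49.QuotBG
import Groth.Agent.AlgStLib.Charts
import Groth.Agent.AlgStLib.LocQ

/-!
# `[Spec A / G] ⟶ Spec A^G` is a universal homeomorphism
-/

set_option autoImplicit false
set_option backward.isDefEq.respectTransparency false
set_option backward.isDefEq.respectTransparency.types false

universe u

open CategoryTheory CategoryTheory.Functor CategoryTheory.Limits MonoidalCategory CartesianMonoidalCategory MonObj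
  AlgebraicGeometry Opposite AlgSp Groth.Agent.FibBase Groth.Agent.AlgSpLib Groth.Agent.AlgStLib Groth.Agent.QuotLib

namespace Groth.Agent.ConstQuot49

/-- A map which is bijective on geometric points stays injective on points after base change. -/
theorem injective_fpFst_of_geomPtBij {S : Scheme.{u}} {𝒳 𝒵 : AlgSt.Cat S} (h𝒳 : FibCat.IsFibGrpd 𝒳.p)
    (h𝒵 : FibCat.IsFibGrpd 𝒵.p) {M : Sp S} {π : 𝒳 ⥤ᵇ AlgSt.ofSp M} (hπ : AlgSt.GeomPtBij π)
    (g : 𝒵 ⥤ᵇ AlgSt.ofSp M) : Function.Injective (AlgSt.Points.map (FibCat.fpFst g π)) := by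
  have hfp : FibCat.IsFibGrpd (FibCat.fp g π).p := fp_isFibGrpd h𝒵 h𝒳 (Stk.isFibGrpd_ofPsh _)
  intro w₁ w₂ h
  obtain ⟨p, rfl⟩ := AlgSt.Points.mk_surjective w₁
  obtain ⟨q, rfl⟩ := AlgSt.Points.mk_surjective w₂
  obtain ⟨r, α, β, -⟩ := (pts_mk_eq_iff h𝒵).1 h
  let Ω := AlgebraicClosure r.K
  let d : Spec (CommRingCat.of Ω) ⟶ Spec (CommRingCat.of r.K) := Spec.map (CommRingCat.ofHom (algebraMap r.K Ω))
  obtain ⟨y, φ, hφ⟩ := h𝒵.exists_lift (x := r.obj)
    ((Over.homMk d rfl : Over.mk (d ≫ r.str) ⟶ Over.mk r.str) ≫ eqToHom r.lies.symm)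
  have hy : 𝒵.p.obj y = Over.mk (d ≫ r.str) := IsHomLift.domain_eq 𝒵.p
    ((Over.homMk d rfl : Over.mk (d ≫ r.str) ⟶ Over.mk r.str) ≫ eqToHom r.lies.symm) φ
  let r' : AlgSt.FPt 𝒵 := { K := Ω, str := d ≫ r.str, obj := y, lies := hy }
  obtain ⟨o₁, ho₁, φ₁, j₁, hj₁⟩ := exists_lift_fpt hfp h𝒵 (FibCat.fpFst g π) p r' (φ ≫ α)
  obtain ⟨o₂, ho₂, φ₂, j₂, hj₂⟩ := exists_lift_fpt hfp h𝒵 (FibCat.fpFst g π) q r' (φ ≫ β)
  let T : Over S := Over.mk r'.str
  let F := FibCat.fpSnd g π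
  have key : ∀ (o : (FibCat.fp g π).obj) (ho : (FibCat.fp g π).p.obj o = T)
      (j : r'.obj ≅ (FibCat.fpFst g π).obj o), 𝒵.p.IsHomLift (𝟙 T) j.hom →
      AlgSt.fibSec π (T := T) ⟨F.obj o, (F.w_obj o).trans ho⟩ = M.obj.map (eqToHom hy.symm).op (secAt g y) := by
    intro o ho j hj
    have h1 : M.obj.map (eqToHom (F.w_obj o).symm).op (secAt π (F.obj o)) = secAt g o.obj.fst := by
      rw [← CatModLocal.secAt_precomp F π, ← secAt_eq_of_iso (FibCat.fpIso g π) o,
        CatModLocal.secAt_precomp (FibCat.fpFst g π) g]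
      exact res_id M.obj _ rfl _
    have h2 : M.obj.map (𝒵.p.map j.hom).op (secAt g o.obj.fst) = secAt g y := secAt_map g j.hom
    rw [fibSec_eq, ← h2, map_eq_of_isHomLift_id (p := 𝒵.p) (S := T) (φ := j.hom) hj, ← h1]
    exact ((congrArg (M.obj.map (eqToHom hy.symm).op) (res_res M.obj _ _ _)).trans
      ((res_res M.obj _ _ _).trans (res_congr M.obj (by simp) _))).symm
  obtain ⟨e⟩ := (hπ Ω r'.str).2 ⟨F.obj o₁, (F.w_obj o₁).trans ho₁⟩ ⟨F.obj o₂, (F.w_obj o₂).trans ho₂⟩
    ((key o₁ ho₁ j₁ hj₁).trans (key o₂ ho₂ j₂ hj₂).symm)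
  let e₁ : o₁.obj.fst ≅ o₂.obj.fst := j₁.symm ≪≫ j₂
  let e₂ : o₁.obj.snd ≅ o₂.obj.snd := (Functor.Fiber.fiberInclusion).mapIso e
  refine AlgSt.Points.sound ⟨{ K := Ω, str := r'.str, obj := o₁, lies := ho₁ }, φ₁,
    (fpIsoMk e₁ e₂ ?_).hom ≫ φ₂, trivial⟩
  refine Stk.EltObj.hom_ext ?_
  have hj₁' : 𝒵.p.IsHomLift (𝟙 T) j₁.inv := by
    have := hj₁; exact IsHomLift.lift_id_inv 𝒵.p T j₁
  have l₁ : 𝒵.p.IsHomLift (𝟙 T) e₁.hom := by
    have := hj₂
    have h3 : 𝒵.p.IsHomLift (𝟙 T ≫ 𝟙 T) (j₁.inv ≫ j₂.hom) := inferInstance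
    rwa [Category.id_comp] at h3
  have l₂ := map_eq_of_isHomLift_id (p := 𝒳.p) (S := T) (φ := e₂.hom)
    (inferInstanceAs (𝒳.p.IsHomLift (𝟙 T) (Functor.Fiber.fiberInclusion.map e.hom)))
  have l₁' := map_eq_of_isHomLift_id (p := 𝒵.p) (S := T) (φ := e₁.hom) l₁
  have i₁ := map_eq_of_isHomLift_id (p := (AlgSt.ofSp M).p) (S := 𝒵.p.obj o₁.obj.fst) o₁.property
  have i₂ := map_eq_of_isHomLift_id (p := (AlgSt.ofSp M).p) (S := 𝒵.p.obj o₂.obj.fst) o₂.property
  have m₁ : (g.map e₁.hom).hom = eqToHom (g.w_obj _) ≫ 𝒵.p.map e₁.hom ≫ eqToHom (g.w_obj _).symm :=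
    Functor.congr_hom g.w e₁.hom
  have m₂ : (π.map e₂.hom).hom = eqToHom (π.w_obj _) ≫ 𝒳.p.map e₂.hom ≫ eqToHom (π.w_obj _).symm :=
    Functor.congr_hom π.w e₂.hom
  show (g.map e₁.hom).hom ≫ o₂.obj.iso.hom.hom = o₁.obj.iso.hom.hom ≫ (π.map e₂.hom).hom
  rw [show o₁.obj.iso.hom.hom = _ from i₁, show o₂.obj.iso.hom.hom = _ from i₂, m₁, m₂, l₁', l₂]
  simp

variable {R : Type u} [CommRing R] {A : Type u} [CommRing A] [Algebra R A]
  {G : Type u} [Group G] [Fintype G] [DecidableEq G] [MulSemiringAction G A] [SMulCommClass G R A]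

attribute [local instance] flat_GR lfp_GR

omit [DecidableEq G] in
theorem isFinite_quot [Algebra.FiniteType R A] : IsFinite (ConstAct.quot R A G).left := by
  rw [quot_left R A G]
  exact (IsFinite.SpecMap_iff _).mpr (RingHom.finite_algebraMap.mpr (finite_inv R A G))

omit [DecidableEq G] in
theorem surjective_quot [Algebra.FiniteType R A] : Surjective (ConstAct.quot R A G).left := by
  have := finite_inv R A G
  have : Algebra.IsIntegral (ConstAct.inv R A G) A := Algebra.IsIntegral.of_finite _ A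
  rw [quot_left R A G]
  exact ⟨RingHom.IsIntegral.comap_surjective (f := algebraMap (ConstAct.inv R A G) A) Algebra.IsIntegral.isIntegral
    Subtype.val_injective⟩

variable {π : ConstAct.quotSt R A G Scheme.fppfPrecoverage ⥤ᵇ AlgSt.ofSch (ConstAct.specInv R A G)}

/-- The quotient stack maps by a universal homeomorphism to the spectrum of the invariants. -/
theorem isUnivHomeo [Algebra.FiniteType R A]
    (hπ : BasedFunctor.comp
        (AlgSt.quotMap Scheme.fppfPrecoverage (ConstAct.GR R G) (ConstAct.gaction R A G)) π =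
      AlgSt.ofSpMap ((AlgSp.yon (Spec (CommRingCat.of R))).map (ConstAct.quot R A G))) :
    AlgSt.IsUnivHomeo Scheme.fppfPrecoverage π := by
  intro 𝒵 h𝒵 g
  have : IsAffineHom (ConstAct.GR R G).hom :=
    inferInstanceAs (IsAffineHom (Spec.map (CommRingCat.ofHom (algebraMap R (ConstGrp.F R G)))))
  have hQ : AlgSt.IsAlgStack Scheme.fppfPrecoverage (ConstAct.quotSt R A G Scheme.fppfPrecoverage) :=
    ArtinBoot49.isAlgStack_quotSt _
  have hB := isAlgStack_ofSp (S := Spec (CommRingCat.of R))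
    ⟨(yon _).obj (ConstAct.specInv R A G), IsAlgSpace.yon_obj _⟩
  have hP := isAlgStack_fp h𝒵 hQ hB.isStack hB.diag g π
  let q' := FibCat.fpFst g π
  have hinj : Function.Injective (AlgSt.Points.map q') :=
    injective_fpFst_of_geomPtBij hQ.isStack.1 h𝒵.isStack.1 (geomPtBij hπ) g
  obtain ⟨V, x, hx, hx'⟩ := id h𝒵.atlas
  let m : V ⟶ ConstAct.specInv R A G := (secAt (BasedFunctor.comp x g) (Over.mk (𝟙 V))).down
  have hm : ∀ v : Over V, secAt (BasedFunctor.comp x g) v = ⟨v.hom ≫ m⟩ := fun v =>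
    (secAt_map (BasedFunctor.comp x g) (Over.homMk v.hom (Category.comp_id _) :
      v ⟶ Over.mk (𝟙 V))).symm
  let P := pullback m (ConstAct.quot R A G)
  let a : P ⟶ V := pullback.fst _ _
  let b : P ⟶ ConstAct.X R A := pullback.snd _ _
  let c : FibCat.overCat P ⥤ᵇ FibCat.fp g π :=
    FibCat.fpLift (BasedFunctor.comp (AlgSt.overMap a) x)
      (BasedFunctor.comp (overOfMap ((yon _).map b))
        (AlgSt.quotMap Scheme.fppfPrecoverage (ConstAct.GR R G) (ConstAct.gaction R A G)))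
      (pshIso _ _ fun u => by
        have h1 : secAt (BasedFunctor.comp (BasedFunctor.comp (AlgSt.overMap a) x) g) u =
            ⟨(u.hom ≫ a) ≫ m⟩ :=
          (CatModLocal.secAt_precomp (AlgSt.overMap a) (BasedFunctor.comp x g) u).trans
            ((res_id ((yon _).obj (ConstAct.specInv R A G)).obj _ rfl _).trans (hm _))
        have h2 : secAt (BasedFunctor.comp (BasedFunctor.comp (overOfMap ((yon _).map b))
              (AlgSt.quotMap Scheme.fppfPrecoverage (ConstAct.GR R G) (ConstAct.gaction R A G))) π) u =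
            ⟨(u.hom ≫ b) ≫ ConstAct.quot R A G⟩ :=
          (CatModLocal.secAt_precomp _ π u).trans
            ((res_id ((yon _).obj (ConstAct.specInv R A G)).obj _ rfl _).trans
              (ULift.ext _ _ (secAt_triv hπ (u.hom ≫ b))))
        rw [h1, h2, Category.assoc, Category.assoc, pullback.condition])
  have hc : ∀ s, AlgSt.Points.map q' (AlgSt.Points.ofChart c s) = AlgSt.Points.ofChart x (a.left s) := fun s => by
    rw [map_ofChart, ← ofChart_overMap]
    rfl
  have hpb : IsPullback a.left b.left m.left (ConstAct.quot R A G).left :=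
    (IsPullback.of_hasPullback m (ConstAct.quot R A G)).map (Over.forget _)
  have : IsFinite a.left := MorphismProperty.of_isPullback hpb.flip isFinite_quot
  have : Surjective a.left := MorphismProperty.of_isPullback hpb.flip surjective_quot
  have hxs := ofChart_surjective h𝒵.isStack.1 hx'
  have hsurj : Function.Surjective (AlgSt.Points.map q') := fun z => by
    obtain ⟨v, rfl⟩ := hxs z
    obtain ⟨s, rfl⟩ := a.left.surjective v
    exact ⟨_, hc s⟩
  have hclosed : IsClosedMap (AlgSt.Points.map q') := fun C hC => by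
    have hpre : AlgSt.Points.ofChart x ⁻¹' (AlgSt.Points.map q' '' C) =
        a.left '' (AlgSt.Points.ofChart c ⁻¹' C) := by
      ext v
      constructor
      · rintro ⟨w, hw, hwv⟩
        obtain ⟨s, rfl⟩ := a.left.surjective v
        refine ⟨s, ?_, rfl⟩
        rw [Set.mem_preimage, ← hinj (hwv.trans (hc s).symm)]
        exact hw
      · rintro ⟨s, hs, rfl⟩
        exact ⟨_, hs, hc s⟩
    have hcl : IsClosed (AlgSt.Points.ofChart x ⁻¹' (AlgSt.Points.map q' '' C)) := by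
      rw [hpre]
      exact a.left.isClosedMap _ (hC.preimage (continuous_ofChart hP.isStack.1 hP.atlas c))
    refine isOpen_compl_iff.1 (isOpen_of_chart h𝒵.isStack.1 (repByAlgSpWith_flat_of_smooth hx)
      (repByAlgSpWith_lfp_of_smooth hx) hx' ?_)
    rw [Set.preimage_compl]
    exact hcl.isOpen_compl
  exact isHomeomorph_iff_continuous_isClosedMap_bijective.mpr
    ⟨continuous_pts_map h𝒵.isStack.1 h𝒵.atlas q', hclosed, hinj, hsurj⟩

end Groth.Agent.ConstQuot49
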