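import Groth.Agent.ConstQuot49.Alg
import Groth.Agent.EtFound.SectionUnr
import Groth.Agent.AlgSpLib.LocP
import Groth.Agent.AlgSpPts.Geom
import Groth.Prelude.Def_AlgSp

/-!
# Etale lifts of maps to algebraic spaces and their equalizers
-/

set_option autoImplicit false
set_option backward.isDefEq.respectTransparency false
set_option backward.isDefEq.respectTransparency.types false

universe u

open CategoryTheory CategoryTheory.Limits AlgebraicGeometry Opposite AlgSp Groth.Agent.AlgSpLib
open scoped TensorProduct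

namespace Groth.Agent.ConstQuot49

variable {S : Scheme.{u}} {N : Sp S} {B : Type u} [CommRing B] (sB : Spec (CommRingCat.of B) ⟶ S)

/-- The spectrum of an algebra as a scheme over the base. -/
noncomputable abbrev ob (E : Type u) [CommRing E] [Algebra B E] : Over S :=
  Over.mk (Spec.map (CommRingCat.ofHom (algebraMap B E)) ≫ sB)

/-- The morphism of spectra of an algebra map. -/
noncomputable def mp {E E' : Type u} [CommRing E] [Algebra B E] [CommRing E'] [Algebra B E'] (φ : E →ₐ[B] E') :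
    ob sB E' ⟶ ob sB E :=
  Over.homMk (Spec.map (CommRingCat.ofHom φ.toRingHom)) (by
    simp only [Over.mk_hom, ← Category.assoc, ← Spec.map_comp, ← CommRingCat.ofHom_comp]
    rw [show φ.toRingHom.comp (algebraMap B E) = algebraMap B E' from φ.comp_algebraMap])

@[simp] theorem mp_left {E E' : Type u} [CommRing E] [Algebra B E] [CommRing E'] [Algebra B E'] (φ : E →ₐ[B] E') :
    (mp sB φ).left = Spec.map (CommRingCat.ofHom φ.toRingHom) := rfl

theorem mp_comp {E E' E'' : Type u} [CommRing E] [Algebra B E] [CommRing E'] [Algebra B E'] [CommRing E'']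
    [Algebra B E''] (φ : E →ₐ[B] E') (ψ : E' →ₐ[B] E'') : mp sB ψ ≫ mp sB φ = mp sB (ψ.comp φ) :=
  Over.OverMorphism.ext ((Spec.map_comp _ _).symm.trans rfl)

theorem mp_id {E : Type u} [CommRing E] [Algebra B E] : mp sB (AlgHom.id B E) = 𝟙 _ :=
  Over.OverMorphism.ext (Spec.map_id _)

variable {Ω : Type u} [Field Ω]

/-- Etale affine neighbourhood of finitely many geometric points of an etale scheme. -/
theorem exists_etale_affine_through {A : Type u} [CommRing A] {V : Scheme.{u}} (f : V ⟶ Spec (CommRingCat.of A))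
    [Etale f] {ι : Type u} [Finite ι] (v : ι → (Spec (CommRingCat.of Ω) ⟶ V)) :
    ∃ (C : Type u) (_ : CommRing C) (_ : Algebra A C) (_ : Algebra.Etale A C) (j : Spec (CommRingCat.of C) ⟶ V),
      j ≫ f = Spec.map (CommRingCat.ofHom (algebraMap A C)) ∧
      ∀ i, ∃ w : C →+* Ω, Spec.map (CommRingCat.ofHom w) ≫ j = v i := by
  choose W hW hxW _ using fun i => exists_isAffineOpen_mem_and_subset (X := V) (U := ⊤)
    (x := (v i).base default) (by trivial)
  let g : ι → Scheme.{u} := fun i => (W i).toScheme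
  have : ∀ i, IsAffine (g i) := fun i => hW i
  let j0 : ∐ g ⟶ V := Sigma.desc fun i => (W i).ι
  have : Etale (j0 ≫ f) := by
    refine IsZariskiLocalAtSource.of_openCover (P := @Etale) (sigmaOpenCover g) fun i => ?_
    have e : (sigmaOpenCover g).f i ≫ j0 ≫ f = (W i).ι ≫ f := by
      show Sigma.ι g i ≫ _ = _
      rw [Sigma.ι_desc_assoc]
    rw [e]
    infer_instance
  let j : Spec Γ(∐ g, ⊤) ⟶ V := (∐ g).isoSpec.inv ≫ j0
  obtain ⟨φ, hφ⟩ := Spec.map_surjective (j ≫ f)
  have : Etale (Spec.map φ) := by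
    rw [hφ, Category.assoc]
    exact MorphismProperty.comp_mem _ _ _ inferInstance inferInstance
  algebraize [φ.hom]
  refine ⟨Γ(∐ g, ⊤), inferInstance, inferInstance, RingHom.etale_algebraMap.mp ((HasRingHomProperty.Spec_iff (P := @Etale)).mp ‹_›), j,
    hφ.symm, fun i => ?_⟩
  have hr : Set.range (v i).base ⊆ Set.range (W i).ι.base := by
    rintro _ ⟨p, rfl⟩
    rw [Scheme.Opens.range_ι, Subsingleton.elim p default]
    exact hxW i
  let l := IsOpenImmersion.lift (W i).ι (v i) hr
  refine ⟨(Spec.preimage (l ≫ Sigma.ι g i ≫ (∐ g).isoSpec.hom)).hom, ?_⟩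
  rw [CommRingCat.ofHom_hom, Spec.map_preimage]
  simp only [j, Category.assoc, Iso.hom_inv_id_assoc, j0, Sigma.ι_desc]
  exact IsOpenImmersion.lift_fac _ _ _

variable {U : Over S} {p : (yon S).obj U ⟶ N}

/-- Maps to an etale chart with the same composite agree on an open subscheme containing all the points at which
they agree. -/
theorem exists_open_eq (hp : RepWith @Etale p) {T : Over S} (k k' : T ⟶ U)
    (hk : (yon S).map k ≫ p = (yon S).map k' ≫ p) :
    ∃ D : T.left.Opens, (∀ {W : Over S} (y : W ⟶ T), y ≫ k = y ≫ k' → Set.range y.left.base ⊆ D) ∧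
      ∀ {W : Over S} (y : W ⟶ T), Set.range y.left.base ⊆ D → y ≫ k = y ≫ k' := by
  let Z := hp.rep.pullback p
  let Δ : U ⟶ Z := hp.rep.lift' (𝟙 U) (𝟙 U) rfl
  let q : Z.left ⟶ U.left := (hp.rep.snd p).left
  have : Etale q := hp.property_snd p
  have hΔ : Δ.left ≫ q = 𝟙 U.left := by
    show Δ.left ≫ (hp.rep.snd p).left = _
    rw [← Over.comp_left, Functor.relativelyRepresentable.lift'_snd, Over.id_left]
  have : IsOpenImmersion Δ.left := EtFound.isOpenImmersion_section (p := q) Δ.left hΔ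
  let kk : T ⟶ Z := hp.rep.lift' k k' hk
  have hkk : ∀ {W : Over S} (y : W ⟶ T), y ≫ k = y ≫ k' → y ≫ kk = (y ≫ k) ≫ Δ := fun y hy =>
    hp.rep.hom_ext' (by simp [kk, Δ]) (by simp [kk, Δ, hy])
  refine ⟨kk.left ⁻¹ᵁ Δ.left.opensRange, fun y hy => ?_, fun {W} y hy => ?_⟩
  · rintro _ ⟨z, rfl⟩
    show kk.left.base (y.left.base z) ∈ Set.range Δ.left.base
    rw [← Scheme.Hom.comp_apply, ← Over.comp_left, hkk y hy, Over.comp_left]
    exact ⟨_, (Scheme.Hom.comp_apply _ _ _).symm⟩
  · have hr : Set.range (y ≫ kk).left.base ⊆ Set.range Δ.left.base := by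
      rintro _ ⟨z, rfl⟩
      exact hy ⟨z, rfl⟩
    let l := IsOpenImmersion.lift Δ.left (y ≫ kk).left hr
    have hl : l ≫ Δ.left = (y ≫ kk).left := IsOpenImmersion.lift_fac _ _ _
    let l' : W ⟶ U := Over.homMk l (by
      rw [← Over.w Δ, ← Category.assoc, hl]
      exact Over.w (y ≫ kk))
    have e : y ≫ kk = l' ≫ Δ := Over.OverMorphism.ext hl.symm
    have e1 := congrArg (fun t => t ≫ hp.rep.fst' p) e
    have e2 := congrArg (fun t => t ≫ hp.rep.snd p) e
    simp only [kk, Δ, Category.assoc, Functor.relativelyRepresentable.lift'_fst,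
      Functor.relativelyRepresentable.lift'_snd, Category.comp_id] at e1 e2
    exact e1.trans e2.symm

/-- An affine etale chart, mapping into an affine open of the base, through a geometric point. -/
theorem exists_affine_chart [IsAlgClosed Ω] (hN : IsAlgSpace N) {str : Spec (CommRingCat.of Ω) ⟶ S}
    (n : (yon S).obj (Over.mk str) ⟶ N) :
    ∃ (U : Over S) (p : (yon S).obj U ⟶ N) (u : Over.mk str ⟶ U), RepWith @Etale p ∧ IsAffine U.left ∧
      (∃ S₀ : S.Opens, IsAffineOpen S₀ ∧ Set.range U.hom.base ⊆ S₀) ∧ (yon S).map u ≫ p = n := by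
  obtain ⟨U, p, hp, hp'⟩ := hN.atlas
  let : Inhabited (Over.mk str).left := inferInstanceAs (Inhabited (Spec (CommRingCat.of Ω)))
  have : Subsingleton (Over.mk str).left := inferInstanceAs (Subsingleton (Spec (CommRingCat.of Ω)))
  let Z := hp.rep.pullback n
  let q : Z ⟶ Over.mk str := hp.rep.snd n
  have : Etale q.left := hp.property_snd n
  have : Surjective q.left := hp'.property_snd n
  obtain ⟨z, -⟩ := q.left.surjective default
  obtain ⟨s, hs, -⟩ := AlgSpPts.exists_section_of_etale q z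
  let u₀ : Over.mk str ⟶ U := s ≫ hp.rep.fst' n
  have hu₀ : (yon S).map u₀ ≫ p = n := by
    simp only [u₀, Functor.map_comp, Category.assoc, Functor.relativelyRepresentable.map_fst']
    rw [hp.rep.w, ← Category.assoc, ← Functor.map_comp, hs, CategoryTheory.Functor.map_id, Category.id_comp]
  obtain ⟨S₀, hS₀, hxS₀, -⟩ := exists_isAffineOpen_mem_and_subset (X := S) (U := ⊤)
    (x := U.hom.base (u₀.left.base default)) (by trivial)
  obtain ⟨W, hW, hxW, hWS⟩ := exists_isAffineOpen_mem_and_subset (X := U.left) (U := U.hom ⁻¹ᵁ S₀)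
    (x := u₀.left.base default) hxS₀
  let U₁ : Over S := Over.mk (W.ι ≫ U.hom)
  let i : U₁ ⟶ U := Over.homMk W.ι rfl
  have hr : Set.range u₀.left.base ⊆ Set.range W.ι.base := by
    rintro _ ⟨z, rfl⟩
    rw [Scheme.Opens.range_ι, Subsingleton.elim z default]
    exact hxW
  let u : Over.mk str ⟶ U₁ := Over.homMk (IsOpenImmersion.lift W.ι u₀.left hr) (by
    show _ ≫ W.ι ≫ U.hom = _
    rw [IsOpenImmersion.lift_fac_assoc]
    exact Over.w u₀)
  have hu : u ≫ i = u₀ := Over.OverMorphism.ext (IsOpenImmersion.lift_fac _ _ _)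
  refine ⟨U₁, (yon S).map i ≫ p, u, repWith_comp ((repWith_yon_map_iff _ _).2 (inferInstanceAs (Etale W.ι))) hp,
    hW, ⟨S₀, hS₀, ?_⟩, by rw [← Category.assoc, ← Functor.map_comp, hu, hu₀]⟩
  rintro _ ⟨z, rfl⟩
  exact hWS z.2

end Groth.Agent.ConstQuot49
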