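import Groth.Agent.AlgStLib.DiagLFT
import Groth.Agent.AlgStLib.CatModuliLocal
import Groth.Agent.AlgSpPts.ProperSubspace
import Groth.Agent.AlgSpMor.Glue
import Groth.Agent.S10192
import Groth.Agent.S10193

/-!
# Moduli spaces of reduced stacks are reduced
-/

set_option autoImplicit false
set_option backward.isDefEq.respectTransparency false
set_option backward.isDefEq.respectTransparency.types false

universe u

open CategoryTheory CategoryTheory.Functor CategoryTheory.Limits AlgebraicGeometry Opposite AlgSp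
  Groth.Agent.FibBase Groth.Agent.AlgSpLib Groth.Agent.AlgStLib

namespace Groth.Agent.ConstQuot49

variable {S : Scheme.{u}} {𝒳 : AlgSt.Cat S} {M : Sp S}

theorem app_injective_of_mono {Z : Sp S} (i : Z ⟶ M) [Mono i] (W : Over S) :
    Function.Injective (i.hom.app (op W)) := fun a b h => by
  obtain ⟨ga, rfl⟩ : ∃ ga : (yon S).obj W ⟶ Z, (J S).uliftYonedaEquiv ga = a := ⟨_, Equiv.apply_symm_apply _ a⟩
  obtain ⟨gb, rfl⟩ : ∃ gb : (yon S).obj W ⟶ Z, (J S).uliftYonedaEquiv gb = b := ⟨_, Equiv.apply_symm_apply _ b⟩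
  have h' : (J S).uliftYonedaEquiv (ga ≫ i) = (J S).uliftYonedaEquiv (gb ≫ i) := h
  rw [(cancel_mono i).1 ((J S).uliftYonedaEquiv.injective h')]

/-- Sections which are locally in a subsheaf are in it. -/
theorem exists_app_eq_of_local {Z : Sp S} (i : Z ⟶ M) [Mono i] {W : Over S} (m : M.obj.obj (op W))
    {T : Sieve W} (hT : T ∈ J S W)
    (h : ∀ ⦃V : Over S⦄ (k : V ⟶ W), T k → ∃ z, i.hom.app (op V) z = M.obj.map k.op m) :
    ∃ z, i.hom.app (op W) z = m := by
  choose z hz using h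
  let fam : Presieve.FamilyOfElements Z.obj T.arrows := fun V k hk => z k hk
  have hfam : fam.Compatible := by
    intro V₁ V₂ U g₁ g₂ k₁ k₂ h₁ h₂ w
    refine app_injective_of_mono i U ?_
    refine (NatTrans.naturality_apply i.hom g₁.op _).trans ?_
    refine Eq.trans ?_ (NatTrans.naturality_apply i.hom g₂.op _).symm
    rw [hz, hz]
    exact (res_res M.obj _ _ _).trans ((res_congr M.obj w _).trans (res_res M.obj _ _ _).symm)
  obtain ⟨z₀, hz₀⟩ := (((isSheaf_iff_isSheaf_of_type _ _).1 Z.property) T hT fam hfam).exists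
  refine ⟨z₀, CatModLocal.ext_of_covering hT fun V k hk => ?_⟩
  rw [← NatTrans.naturality_apply i.hom k.op z₀, hz₀ k hk]
  exact hz k hk

/-- A categorical moduli space of a reduced algebraic stack is reduced. -/
theorem isReducedSp_of_isCatModuli (h𝒳 : AlgSt.IsAlgStack Scheme.fppfPrecoverage 𝒳)
    (hred : AlgSt.SmoothLocally (fun X => IsReduced X) 𝒳) (π : 𝒳 ⥤ᵇ AlgSt.ofSp M) (hπ : AlgSt.IsCatModuli π) :
    IsReducedSp M := by
  obtain ⟨Z, i, hi, hrange, hZred⟩ := S10192.result ⟨M, hπ.1⟩ Set.univ isClosed_univ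
  have : Mono i.hom := AlgSpPts.ProperSub.mono_closedImmersion hi
  obtain ⟨V, v, hv, hv'⟩ := id h𝒳.atlas
  have : IsReduced V.left := hred V v hv
  let a : (yon S).obj V ⟶ M := mapOfOver (BasedFunctor.comp v π)
  obtain ⟨b, hb⟩ := (S10193.result (X := ⟨M, hπ.1⟩) (Y := ⟨_, IsAlgSpace.yon_obj V⟩) i hi
    Groth.Agent.AlgSpMor.isReducedSp_yon (ObjectProperty.homMk a)).2 (by
      rw [hrange]; exact Set.subset_univ _)
  have hloc : ∀ x, ∃ z : Z.obj.obj.obj (op (𝒳.p.obj x)), i.hom.hom.app _ z = secAt π x := by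
    intro x
    obtain ⟨G, j, hj⟩ := exists_overCat_obj h𝒳.isStack.1 (U := 𝒳.p.obj x) x rfl
    obtain ⟨R, hR, hR'⟩ := locEssSurj_of_atlas hv hv' _ G
    refine exists_app_eq_of_local i.hom _ hR fun W k hk => ?_
    obtain ⟨z, ⟨jz⟩⟩ := hR' k hk
    let one : (FibCat.overCat W : AlgSt.Cat S).obj := Over.mk (𝟙 W)
    let m₀ : (AlgSt.overMap k : _ ⥤ᵇ FibCat.overCat (𝒳.p.obj x)).obj one ⟶ Over.mk (𝟙 (𝒳.p.obj x)) :=
      Over.homMk k (show k ≫ 𝟙 _ = 𝟙 W ≫ k by rw [Category.comp_id, Category.id_comp])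
    let m : v.obj (z.obj one) ⟶ x := (isoApp jz one).hom ≫ G.map m₀ ≫ j.hom
    have hobj : 𝒳.p.obj (v.obj (z.obj one)) = W := (v.w_obj _).trans (z.w_obj one)
    have hm : 𝒳.p.map m = eqToHom hobj ≫ k := by
      have h1 := map_eq_of_isHomLift_id (p := 𝒳.p) (isoApp_lift jz (a := one) rfl)
      have h2 := map_eq_of_isHomLift_id (p := 𝒳.p) hj
      have h3 : 𝒳.p.map (G.map m₀) = eqToHom (G.w_obj _) ≫ k ≫ eqToHom (G.w_obj _).symm :=
        Functor.congr_hom G.w m₀
      simp only [m, Functor.map_comp]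
      erw [h1, h2, h3]
      simp
    let u := z.obj one
    have hu : (FibCat.overCat V : AlgSt.Cat S).p.obj u = W := z.w_obj one
    let d := M.obj.map (eqToHom hu.symm).op
    refine ⟨Z.obj.obj.map (eqToHom hu.symm).op (b.hom.hom.app _ (⟨u.hom⟩ : ((yon S).obj V).obj.obj (op u.left))), ?_⟩
    rw [NatTrans.naturality_apply i.hom.hom]
    have h4 : i.hom.hom.app _ (b.hom.hom.app _ (⟨u.hom⟩ : ((yon S).obj V).obj.obj (op u.left))) = secAt (BasedFunctor.comp v π) u := by
      have h5 : b.hom ≫ i.hom = a := congrArg (·.hom) hb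
      refine (congrArg (fun q : (yon S).obj V ⟶ M => q.hom.app _ (⟨u.hom⟩ : ((yon S).obj V).obj.obj (op u.left))) h5).trans ?_
      have h7 := secAt_eq_of_iso (isoOverOfMap (BasedFunctor.comp v π)) u
      rw [h7]
      exact (res_id M.obj _ rfl _).symm
    refine (congrArg (M.obj.map (eqToHom hu.symm).op) (h4.trans (CatModLocal.secAt_precomp v π u))).trans ?_
    have h6 := secAt_map π m
    rw [hm] at h6
    change M.obj.map (eqToHom hu.symm).op (M.obj.map (eqToHom (v.w_obj u).symm).op (secAt π (v.obj u))) =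
      M.obj.map k.op (secAt π x)
    rw [← h6]
    exact (congrArg _ (res_res M.obj _ _ _)).trans ((res_res M.obj _ _ _).trans (res_congr M.obj (by simp) _))
  choose z hz using hloc
  let ψ : 𝒳 ⥤ᵇ AlgSt.ofSp Z.obj :=
    { toFunctor :=
        { obj := fun x => ⟨𝒳.p.obj x, z x⟩
          map := fun {x y} φ => ⟨𝒳.p.map φ, app_injective_of_mono i.hom _ (by
            rw [hz x, ← secAt_map π φ, ← hz y]
            exact NatTrans.naturality_apply i.hom.hom _ _)⟩
          map_id := fun x => Stk.EltObj.hom_ext (by exact 𝒳.p.map_id x)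
          map_comp := fun φ φ' => Stk.EltObj.hom_ext (by exact 𝒳.p.map_comp φ φ') }
      w := rfl }
  obtain ⟨g, ⟨e⟩, -⟩ := hπ.2 Z.obj Z.property ψ
  have hgi : g ≫ i.hom = 𝟙 M := by
    refine (hπ.2 M hπ.1 π).unique ⟨pshIso _ _ fun x => ?_⟩ ⟨pshIso _ _ fun x => ?_⟩
    · refine (secAt_comp_ofPshMap π _ x).trans ?_
      show i.hom.hom.app _ (g.hom.app _ (secAt π x)) = secAt π x
      have h1 := (secAt_comp_ofPshMap π g.hom x).symm.trans (secAt_eq_of_iso e x)
      rw [h1, ← hz x]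
      exact congrArg _ (res_id Z.obj.obj _ rfl _)
    · exact secAt_comp_ofPshMap π _ x
  have : IsSplitEpi i.hom := ⟨⟨⟨g, hgi⟩⟩⟩
  have : IsIso i.hom := isIso_of_mono_of_epi i.hom
  obtain ⟨U, p, hp, hp', hU⟩ := hZred
  exact ⟨U, p ≫ i.hom, repWith_comp hp (repWith_of_isIso _ _), repWith_comp hp' (repWith_of_isIso _ _), hU⟩

end Groth.Agent.ConstQuot49
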