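import Groth.Agent.ConstQuot49.Stack

/-!
# Coarse moduli spaces of quotient stacks from geometric orbits
-/

set_option autoImplicit false
set_option backward.isDefEq.respectTransparency false
set_option backward.isDefEq.respectTransparency.types false

universe u

open CategoryTheory CategoryTheory.Functor CategoryTheory.Limits MonoidalCategory CartesianMonoidalCategory
  AlgebraicGeometry Opposite AlgSp Groth.Agent.FibBase Groth.Agent.AlgSpLib Groth.Agent.AlgStLib Groth.Agent.QuotLib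

namespace Groth.Agent.ConstQuot49

local notation "K₀" => Scheme.fppfPrecoverage

variable {S : Scheme.{u}} {G : Over S} [GrpObj G] [Flat G.hom] [LocallyOfFinitePresentation G.hom] {X Y : Over S}
  {aX : AlgGrp.Action G X} {π : AlgSt.QuotSt K₀ G aX ⥤ᵇ AlgSt.ofSch Y} {f : X ⟶ Y}

omit [Flat G.hom] [LocallyOfFinitePresentation G.hom] in
theorem fibSec_of_triv (hf : restrHom π = (yon S).map f) {T : Over S} (x : T ⟶ X)
    (y : (AlgSt.QuotSt K₀ G aX).p.Fiber T) (e : triv K₀ G aX x ≅ y.1)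
    (he : e.hom.base = eqToHom y.2.symm) : AlgSt.fibSec π y = ⟨x ≫ f⟩ := by
  have h1 : secAt π (triv K₀ G aX x) = ⟨x ≫ f⟩ := by
    rw [← restrHom_app, hf]
    rfl
  rw [fibSec_eq, ← h1, ← secAt_map π e.hom]
  exact res_congr _ he.symm _

/-- Orbits of geometric points give bijectivity on geometric points. -/
theorem geomPtBij_of_orbits (hf : restrHom π = (yon S).map f)
    (horb : ∀ (Ω : Type u) [Field Ω] [IsAlgClosed Ω] (t : Spec (CommRingCat.of Ω) ⟶ S),
      (∀ y : Over.mk t ⟶ Y, ∃ x : Over.mk t ⟶ X, x ≫ f = y) ∧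
      (∀ x x' : Over.mk t ⟶ X, x ≫ f = x' ≫ f → ∃ g : Over.mk t ⟶ G, lift g x' ≫ aX.act = x)) :
    AlgSt.GeomPtBij π := by
  intro Ω _ _ t
  let T : Over S := Over.mk t
  constructor
  · intro m
    obtain ⟨x, hx⟩ := (horb Ω t).1 m.down
    refine ⟨⟨triv K₀ G aX x, rfl⟩, ?_⟩
    rw [fibSec_of_triv hf x _ (Iso.refl _) rfl, hx]
    rfl
  · intro y₁ y₂ h
    obtain ⟨x₁, e₁, he₁⟩ := exists_triv_iso (T := T) (fun f hf => exists_section_field Ω t f hf) y₁.1 y₁.2
    obtain ⟨x₂, e₂, he₂⟩ := exists_triv_iso (T := T) (fun f hf => exists_section_field Ω t f hf) y₂.1 y₂.2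
    rw [fibSec_of_triv hf x₁ y₁ e₁ he₁, fibSec_of_triv hf x₂ y₂ e₂ he₂] at h
    obtain ⟨γ, hγ⟩ := (horb Ω t).2 x₁ x₂ (congrArg ULift.down h)
    obtain ⟨k, hk, -⟩ := (hom_triv_iff (K := K₀) (aX := aX) (𝟙 T) x₁ x₂).2 γ (by rw [Category.id_comp, hγ])
    let i := homLiftIso (𝟙 (triv K₀ G aX x₂)) k (Iso.refl T) ((Category.id_comp _).trans hk.symm)
    refine fiber_iso y₁ y₂ (e₁.symm ≪≫ i ≪≫ e₂) ?_
    have h1 : e₁.inv.base = eqToHom y₁.2 := by
      have := congrArg AlgSt.QuotObj.Hom.base e₁.hom_inv_id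
      change e₁.hom.base ≫ e₁.inv.base = 𝟙 T at this
      rw [he₁] at this
      rw [← cancel_epi (eqToHom y₁.2.symm), this, eqToHom_trans, eqToHom_refl]
    show e₁.inv.base ≫ 𝟙 T ≫ e₂.hom.base = _
    rw [h1, he₂]
    exact (congrArg (eqToHom y₁.2 ≫ ·) (Category.id_comp _)).trans (eqToHom_trans _ _)

/-- Geometric orbits and a categorical quotient among algebraic spaces give a coarse moduli space. -/
theorem isCoarseModuli_of_orbits (hf : restrHom π = (yon S).map f)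
    (horb : ∀ (Ω : Type u) [Field Ω] [IsAlgClosed Ω] (t : Spec (CommRingCat.of Ω) ⟶ S),
      (∀ y : Over.mk t ⟶ Y, ∃ x : Over.mk t ⟶ X, x ≫ f = y) ∧
      (∀ x x' : Over.mk t ⟶ X, x ≫ f = x' ≫ f → ∃ g : Over.mk t ⟶ G, lift g x' ≫ aX.act = x))
    (hcat : ∀ (N : AlgSp.Space S) (ψ : (yon S).obj X ⟶ N.obj),
      (yon S).map aX.act ≫ ψ = (yon S).map (snd G X) ≫ ψ →
        ∃! χ : (yon S).obj Y ⟶ N.obj, (yon S).map f ≫ χ = ψ) :
    AlgSt.IsCoarseModuli π := by
  refine ⟨⟨IsAlgSpace.yon_obj Y, fun N hN φ => ?_⟩, geomPtBij_of_orbits hf horb⟩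
  have key : ∀ χ : (yon S).obj Y ⟶ N, Nonempty (BasedFunctor.comp π (AlgSt.ofSpMap χ) ≅ φ) ↔
      (yon S).map f ≫ χ = restrHom φ := fun χ => by
    rw [nonempty_iso_iff, restrHom_comp, hf]
  simp only [key]
  exact hcat ⟨N, hN⟩ _ (restrHom_invariant φ)

end Groth.Agent.ConstQuot49
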