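import Groth.Agent.ConstQuot49.Homeo
import Groth.Agent.AlgStLib.UnivInj
import Groth.Agent.AlgStLib.DiagLFT
import Groth.Agent.AlgSpPts.Descent
import Groth.Agent.AlgSpDec.AffineProps
import Groth.Agent.S10279
import Mathlib.AlgebraicGeometry.ZariskisMainTheorem

/-!
# Coarse moduli spaces from sections
-/

set_option autoImplicit false
set_option backward.isDefEq.respectTransparency false
set_option backward.isDefEq.respectTransparency.types false

universe u

open CategoryTheory CategoryTheory.Functor CategoryTheory.Limits AlgebraicGeometry Opposite AlgSp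
  Groth.Agent.FibBase Groth.Agent.AlgSpLib Groth.Agent.AlgStLib

namespace Groth.Agent.ConstQuot49

variable {S : Scheme.{u}}

/-- Maps from a reduced scheme which agree after a universally closed surjection agree. -/
theorem hom_ext_of_univClosed_surjective {V : Over S} [IsReduced V.left] {N : Sp S} (hN : IsAlgSpace N)
    (a b : (yon S).obj V ⟶ N) (F : Space S) (c : F.obj ⟶ (yon S).obj V) (hc : IsUnivClosedMor c)
    (hs : IsSurjectiveMor c) (h : c ≫ a = c ≫ b) : a = b := by
  have hd := AlgSpPts.diag_package hN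
  let r := hd.1.rep
  let g : (yon S).obj V ⟶ N ⨯ N := prod.lift a b
  let e := r.snd g
  have sq : IsPullback (r.fst g) ((yon S).map e) (Limits.diag N) g := r.isPullback g
  have : LocallyOfFiniteType e.left := hd.1.2 g _ _ sq
  have hm : Mono e.left := hd.2.2.2.2 g _ _ sq
  have hw : (c ≫ a) ≫ Limits.diag N = c ≫ g := by
    apply Limits.prod.hom_ext
    · simp [g]
    · simp [g, h]
  let l := sq.lift (c ≫ a) c hw
  have hl : l ≫ (yon S).map e = c := sq.lift_snd _ _ _
  let E : Space S := ⟨_, IsAlgSpace.yon_obj (r.pullback g)⟩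
  let V' : Space S := ⟨_, IsAlgSpace.yon_obj V⟩
  have hsurj : IsSurjectiveMor l := by
    intro z
    obtain ⟨y, hy⟩ := hs (Points.map ((yon S).map e) z)
    refine ⟨y, ?_⟩
    obtain ⟨v, rfl⟩ := (Points.schemeHomeo (r.pullback g)).surjective z
    obtain ⟨v', hv'⟩ := (Points.schemeHomeo (r.pullback g)).surjective (Points.map l y)
    rw [← hl, Points.map_comp, ← hv', Points.map_yon_map_apply, Points.map_yon_map_apply] at hy
    rw [← hv', e.left.injective ((Points.schemeHomeo V).injective hy)]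
  have huc : IsUnivClosedMor ((yon S).map e) :=
    S10279.result (X := F) (Y := E) (B := V') (ObjectProperty.homMk l) (ObjectProperty.homMk c)
      (ObjectProperty.homMk ((yon S).map e)) (ObjectProperty.hom_ext _ hl) hc hsurj
  have : UniversallyClosed e.left := (repWith_yon_map_iff _ e).1
    (AlgSpDec.repWith_universallyClosed_of_univClosed
      (IsAlgSpace.representable_from_yon (IsAlgSpace.yon_obj V) _) huc)
  have : Surjective e.left := ⟨fun x => by
    obtain ⟨y, hy⟩ := hs (Points.schemeHomeo V x)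
    obtain ⟨v, hv⟩ := (Points.schemeHomeo (r.pullback g)).surjective (Points.map l y)
    rw [← hl, Points.map_comp, ← hv, Points.map_yon_map_apply] at hy
    exact ⟨v, (Points.schemeHomeo V).injective hy⟩⟩
  have : IsProper e.left := {}
  have : IsClosedImmersion e.left := (IsClosedImmersion.iff_isProper_and_mono e.left).2 ⟨inferInstance, hm⟩
  have : IsIso e.left := isIso_of_isClosedImmersion_of_surjective e.left
  have : IsIso e := by
    have : IsIso ((Over.forget S).map e) := inferInstanceAs (IsIso e.left)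
    exact isIso_of_reflects_iso e (Over.forget S)
  rw [← cancel_epi ((yon S).map e)]
  have h₁ := sq.w =≫ prod.fst
  have h₂ := sq.w =≫ prod.snd
  simp only [g, Category.assoc, prod.lift_fst, prod.lift_snd, Category.comp_id] at h₁ h₂
  exact h₁.symm.trans h₂

variable {𝒳 : AlgSt.Cat S} {Z : Sp S} {f : 𝒳 ⥤ᵇ AlgSt.ofSp Z} {s : AlgSt.ofSp Z ⥤ᵇ 𝒳}

/-- A separated map with a section, bijective on geometric points, from a reduced stack is a coarse
moduli space. -/
theorem isCoarseModuli_of_section (h𝒳 : AlgSt.IsAlgStack Scheme.fppfPrecoverage 𝒳)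
    (hred : AlgSt.SmoothLocally (fun X => IsReduced X) 𝒳) (hZ : IsAlgSpace Z) (hf₁ : AlgSt.IsSeparatedMor f)
    (hf₅ : AlgSt.GeomPtBij f) (e : BasedFunctor.comp s f ≅ BasedFunctor.id (AlgSt.ofSp Z)) :
    AlgSt.IsCoarseModuli f := by
  refine ⟨⟨hZ, fun N hN φ => ?_⟩, hf₅⟩
  let g : Z ⟶ N := spHom (BasedFunctor.comp s φ)
  have hsf : spHom (BasedFunctor.comp s f) = 𝟙 Z :=
    (spHom_congr (e ≪≫ eqToIso (by rfl))).trans (by
      refine ObjectProperty.hom_ext _ ?_
      ext T z
      exact res_id Z.obj _ rfl _)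
  refine ⟨g, ?_, fun g' ⟨i⟩ => ?_⟩
  swap
  · have h := spHom_congr (whiskerLeftIso s i)
    exact (((Category.id_comp g').symm.trans ((congrArg₂ (· ≫ ·) hsf.symm (spHom_ofSpMap g').symm).trans
      (spHom_comp _ _).symm)).trans h)
  let ψ : 𝒳 ⥤ᵇ AlgSt.ofSp N := BasedFunctor.comp (BasedFunctor.comp f s) φ
  suffices key : ∀ x, secAt ψ x = secAt φ x by
    exact ⟨whiskerLeftIso f (isoOfSpMap (BasedFunctor.comp s φ)).symm ≪≫ pshIso ψ φ key⟩
  have hfp : FibCat.IsFibGrpd (FibCat.fp f f).p :=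
    fp_isFibGrpd h𝒳.isStack.1 h𝒳.isStack.1 (Stk.isFibGrpd_ofPsh _)
  have hΔ : AlgSt.IsSurjective (FibCat.diag f) :=
    isSurjective_diag_of_injective f (injective_fpFst_of_geomPtBij h𝒳.isStack.1 h𝒳.isStack.1 hf₅ f)
  obtain ⟨V, v, hv, hv'⟩ := id h𝒳.atlas
  have : IsReduced V.left := hred V v hv
  let y : FibCat.overCat V ⥤ᵇ FibCat.fp f f :=
    FibCat.fpLift v (BasedFunctor.comp (BasedFunctor.comp v f) s)
      (whiskerLeftIso (BasedFunctor.comp v f) e).symm
  obtain ⟨F, E, hE, hF⟩ := hf₁ V y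
  let Φ := BasedFunctor.comp E (FibCat.fpFst y (FibCat.diag f))
  let c := AlgSt.spMapOfOver Φ
  have hcs : IsSurjectiveMor c := fun p => by
    obtain ⟨t, rfl⟩ := (Points.schemeHomeo V).surjective p
    obtain ⟨w, hw⟩ := pts_surjective_fpFst h𝒳.isStack.1 hfp (isFibGrpd_overCat V) y hΔ (ptAt V t)
    obtain ⟨w', rfl⟩ := (pts_bijective_of_isEquivOver hE).2 w
    refine ⟨spPt w', ?_⟩
    have h1 := congrArg (toSch V) hw
    rw [← pts_map_comp, toSch_map, toSch_ptAt] at h1
    rw [← h1]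
    exact ((Points.schemeHomeo V).apply_symm_apply _).symm
  let h := BasedFunctor.comp E (FibCat.fpSnd y (FibCat.diag f))
  let θ := whiskerLeftIso E (FibCat.fpIso y (FibCat.diag f))
  let j : BasedFunctor.comp Φ v ≅ BasedFunctor.comp Φ (BasedFunctor.comp (BasedFunctor.comp v f) s) :=
    whiskerRightIso θ (FibCat.fpFst f f) ≪≫ (whiskerRightIso θ (FibCat.fpSnd f f)).symm
  have hcomp : ∀ A : FibCat.overCat V ⥤ᵇ AlgSt.ofSp N,
      spHom (BasedFunctor.comp Φ A) = c ≫ mapOfOver A := fun A =>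
    (spHom_congr (whiskerLeftIso Φ (isoOverOfMap A))).trans
      ((spHom_comp (BasedFunctor.comp Φ (AlgSt.ofOverCat V)) (AlgSt.ofSpMap (mapOfOver A))).trans
        (by rw [spHom_ofSpMap, ← spMapOfOver_eq]))
  have heq : mapOfOver (BasedFunctor.comp v ψ) = mapOfOver (BasedFunctor.comp v φ) := by
    refine hom_ext_of_univClosed_surjective hN _ _ F c hF.2.2 hcs ?_
    rw [← hcomp, ← hcomp]
    exact (spHom_congr (whiskerRightIso j φ)).symm
  have hiso : BasedFunctor.comp v ψ ≅ BasedFunctor.comp v φ :=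
    isoOverOfMap (BasedFunctor.comp v ψ) ≪≫ eqToIso (congrArg overOfMap heq) ≪≫
      (isoOverOfMap (BasedFunctor.comp v φ)).symm
  intro x
  obtain ⟨G, i, hi⟩ := exists_overCat_obj h𝒳.isStack.1 (U := 𝒳.p.obj x) x rfl
  obtain ⟨R, hR, hR'⟩ := locEssSurj_of_atlas hv hv' _ G
  refine CatModLocal.ext_of_covering hR fun W k hk => ?_
  obtain ⟨z, ⟨jz⟩⟩ := hR' k hk
  let one : (FibCat.overCat W : AlgSt.Cat S).obj := Over.mk (𝟙 W)
  let m₀ : (AlgSt.overMap k : _ ⥤ᵇ FibCat.overCat (𝒳.p.obj x)).obj one ⟶ Over.mk (𝟙 (𝒳.p.obj x)) :=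
    Over.homMk k (show k ≫ 𝟙 _ = 𝟙 W ≫ k by rw [Category.comp_id, Category.id_comp])
  let m : v.obj (z.obj one) ⟶ x := (isoApp jz one).hom ≫ G.map m₀ ≫ i.hom
  have hsec : secAt ψ (v.obj (z.obj one)) = secAt φ (v.obj (z.obj one)) := by
    have h6 := congrArg (N.obj.map (eqToHom (v.w_obj (z.obj one))).op) (secAt_eq_of_iso hiso (z.obj one))
    rw [CatModLocal.secAt_precomp v ψ, CatModLocal.secAt_precomp v φ] at h6
    exact (((res_res N.obj _ _ _).trans (res_id N.obj _ (eqToHom_trans _ _) _)).symm.trans h6).trans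
      ((res_res N.obj _ _ _).trans (res_id N.obj _ (eqToHom_trans _ _) _))
  have hobj : 𝒳.p.obj (v.obj (z.obj one)) = W := (v.w_obj _).trans (z.w_obj one)
  have hm : 𝒳.p.map m = eqToHom hobj ≫ k := by
    have h1 := map_eq_of_isHomLift_id (p := 𝒳.p) (isoApp_lift jz (a := one) rfl)
    have h2 := map_eq_of_isHomLift_id (p := 𝒳.p) hi
    have h3 : 𝒳.p.map (G.map m₀) = eqToHom (G.w_obj _) ≫ k ≫ eqToHom (G.w_obj _).symm :=
      Functor.congr_hom G.w m₀
    simp only [m, Functor.map_comp]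
    erw [h1, h2, h3]
    simp
  have h4 := (secAt_map ψ m).trans (hsec.trans (secAt_map φ m).symm)
  rw [hm] at h4
  have h5 := congrArg (N.obj.map (eqToHom hobj.symm).op) h4
  exact ((res_congr N.obj (by simp) _).trans (res_res N.obj _ _ _).symm).trans
    (h5.trans ((res_res N.obj _ _ _).trans (res_congr N.obj (by simp) _)))

end Groth.Agent.ConstQuot49
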