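import Groth.Agent.ConstQuot49.Flat
import Groth.Agent.QuotLib.CatModuli
import Groth.Agent.FibBase.Slices
import Groth.Prelude.Def_ConstAct2
import Groth.Prelude.Def_StCoarse
import Mathlib.AlgebraicGeometry.AlgClosed.Basic

/-!
# The quotient stack of an affine scheme by a finite group
-/

set_option autoImplicit false
set_option backward.isDefEq.respectTransparency false
set_option backward.isDefEq.respectTransparency.types false

universe u

open CategoryTheory CategoryTheory.Functor CategoryTheory.Limits MonoidalCategory CartesianMonoidalCategory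
  AlgebraicGeometry Opposite AlgSp Groth.Agent.FibBase Groth.Agent.AlgSpLib Groth.Agent.AlgStLib Groth.Agent.QuotLib
open scoped TensorProduct

namespace Groth.Agent.ConstQuot49

section Torsor

variable {S : Scheme.{u}} {G : Over S} [GrpObj G] {X : Over S} {aX : AlgGrp.Action G X}

/-- Over a base on which fppf covers split, torsors are trivial. -/
theorem exists_triv_iso [Flat G.hom] [LocallyOfFinitePresentation G.hom] {T : Over S}
    (hT : ∀ {Z : Over S} (f : Z ⟶ T), fppf f.left → ∃ s : T ⟶ Z, s ≫ f = 𝟙 T)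
    (A : AlgSt.QuotObj Scheme.fppfPrecoverage G aX) (hA : A.base = T) :
    ∃ (x : T ⟶ X) (e : triv Scheme.fppfPrecoverage G aX x ≅ A), e.hom.base = eqToHom hA.symm := by
  subst hA
  obtain ⟨s, hs⟩ := hT A.π (fppf_π A)
  let h := trivHom A s (s ≫ A.φ) rfl
  exact ⟨s ≫ A.φ, homLiftIso (𝟙 A) h (Iso.refl A.base)
    ((Category.id_comp _).trans hs.symm), rfl⟩

/-- Objects over the same base with an isomorphism over the identity are isomorphic in the fibre. -/
theorem fiber_iso {𝒳 : AlgSt.Cat S} {T : Over S} (x y : 𝒳.p.Fiber T) (e : x.1 ≅ y.1)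
    (he : 𝒳.p.map e.hom = eqToHom (x.2.trans y.2.symm)) : Nonempty (x ≅ y) := by
  obtain ⟨a, ha⟩ := x
  obtain ⟨b, hb⟩ := y
  subst ha
  have he' : 𝒳.p.map e.inv = eqToHom hb := by
    have h3 : 𝒳.p.map e.hom ≫ 𝒳.p.map e.inv = 𝟙 (𝒳.p.obj a) := by
      rw [← Functor.map_comp, e.hom_inv_id, CategoryTheory.Functor.map_id]
    rw [he] at h3
    rw [← cancel_epi (eqToHom hb.symm)]
    exact h3.trans (eqToHom_trans hb.symm hb).symm
  have h1 : 𝒳.p.IsHomLift (𝟙 (𝒳.p.obj a)) e.hom := IsHomLift.of_fac' _ _ _ rfl hb (by rw [he]; simp)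
  have h2 : 𝒳.p.IsHomLift (𝟙 (𝒳.p.obj a)) e.inv := IsHomLift.of_fac' _ _ _ hb rfl (by rw [he']; simp)
  exact ⟨⟨⟨e.hom, h1⟩, ⟨e.inv, h2⟩, Functor.Fiber.hom_ext e.hom_inv_id, Functor.Fiber.hom_ext e.inv_hom_id⟩⟩

theorem fibSec_eq {𝒳 : AlgSt.Cat S} {M : Sp S} (π : 𝒳 ⥤ᵇ AlgSt.ofSp M) {T : Over S} (x : 𝒳.p.Fiber T) :
    AlgSt.fibSec π x = M.obj.map (eqToHom x.2.symm).op (secAt π x.1) :=
  (res_congr M.obj (by simp) _).trans (res_res M.obj _ _ _).symm

end Torsor

/-- Fppf covers of the spectrum of an algebraically closed field split. -/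
theorem exists_section_field {S : Scheme.{u}} (Ω : Type u) [Field Ω] [IsAlgClosed Ω]
    (t : Spec (CommRingCat.of Ω) ⟶ S) {Z : Over S} (f : Z ⟶ Over.mk t) (hf : fppf f.left) :
    ∃ s : Over.mk t ⟶ Z, s ≫ f = 𝟙 (Over.mk t) := by
  obtain ⟨⟨hs, -⟩, hlfp⟩ := hf
  have : Surjective f.left := hs
  have : LocallyOfFinitePresentation f.left := hlfp
  let f' : Z.left ⟶ Spec (CommRingCat.of Ω) := f.left
  have : LocallyOfFiniteType f' := inferInstanceAs (LocallyOfFiniteType f.left)
  have : JacobsonSpace Z.left := LocallyOfFiniteType.jacobsonSpace f'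
  obtain ⟨z₀, -⟩ := f.left.surjective (IsLocalRing.closedPoint Ω)
  obtain ⟨z, -, hz⟩ := nonempty_inter_closedPoints (X := Z.left) (Z := Set.univ) ⟨z₀, trivial⟩ isClosed_univ.isLocallyClosed
  refine ⟨Over.homMk (pointOfClosedPoint f' z hz) ?_, Over.OverMorphism.ext (pointOfClosedPoint_comp f' z hz)⟩
  rw [← Over.w f, ← Category.assoc]
  exact (congrArg (fun a => a ≫ t) (pointOfClosedPoint_comp f' z hz)).trans (Category.id_comp t)

variable (R : Type u) [CommRing R] (A : Type u) [CommRing A] [Algebra R A]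
  (G : Type u) [Group G] [Fintype G] [DecidableEq G] [MulSemiringAction G A] [SMulCommClass G R A]

theorem flat_GR : Flat (ConstAct.GR R G).hom := by
  have : Module.Flat R (ConstGrp.F R G) := Module.Flat.of_free
  exact (HasRingHomProperty.Spec_iff (P := @Flat)).mpr (RingHom.flat_algebraMap_iff.mpr this)

theorem lfp_GR : LocallyOfFinitePresentation (ConstAct.GR R G).hom := by
  have : Module.FinitePresentation R (ConstGrp.F R G) := Module.finitePresentation_of_projective R _
  have : Algebra.FinitePresentation R (ConstGrp.F R G) := inferInstance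
  exact (HasRingHomProperty.Spec_iff (P := @LocallyOfFinitePresentation)).mpr
    (RingHom.finitePresentation_algebraMap.mpr this)

attribute [local instance] flat_GR lfp_GR

variable {R A G}

/-- The point `g` of the constant group over any scheme over `Spec A`. -/
theorem constPt_act {T : Over (Spec (CommRingCat.of R))} (x : T ⟶ ConstAct.X R A) (g : G) :
    lift (x ≫ CoactBr.pt (ConstAct.constPt R G (K := A) g)) x ≫ (ConstAct.gaction R A G).act =
      x ≫ ConstAct.act R A G g⁻¹ := by
  have h := ConstAct.gaction_constPt R A G (K := A) g (AlgHom.id R A)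
  rw [CoactBr.pt_id, Category.id_comp] at h
  rw [← h, ← Category.assoc, comp_lift, Category.comp_id]

variable {π : ConstAct.quotSt R A G Scheme.fppfPrecoverage ⥤ᵇ AlgSt.ofSch (ConstAct.specInv R A G)}
  (hπ : BasedFunctor.comp
      (AlgSt.quotMap Scheme.fppfPrecoverage (ConstAct.GR R G) (ConstAct.gaction R A G)) π =
    AlgSt.ofSpMap ((AlgSp.yon (Spec (CommRingCat.of R))).map (ConstAct.quot R A G)))
include hπ

theorem restrHom_π : restrHom π = (yon _).map (ConstAct.quot R A G) :=
  (congrArg spHom hπ).trans (spHom_ofSpMap _)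

theorem act_restrHom {N : Sp (Spec (CommRingCat.of R))}
    (φ : ConstAct.quotSt R A G Scheme.fppfPrecoverage ⥤ᵇ AlgSt.ofSp N) (g : G) :
    (yon _).map (ConstAct.act R A G g) ≫ restrHom φ = restrHom φ := by
  have h := restrHom_invariant φ
  have := congrArg (fun z => (yon _).map (lift (𝟙 (ConstAct.X R A) ≫ CoactBr.pt (ConstAct.constPt R G (K := A) g⁻¹))
    (𝟙 (ConstAct.X R A))) ≫ z) h
  simp only [← Category.assoc, ← Functor.map_comp] at this
  rw [constPt_act, Category.id_comp, inv_inv, lift_snd, CategoryTheory.Functor.map_id, Category.id_comp] at this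
  exact this

/-- The quotient stack has the spectrum of the invariants as categorical moduli space. -/
theorem isCatModuli [Algebra.FiniteType R A] : AlgSt.IsCatModuli π := by
  refine ⟨IsAlgSpace.yon_obj _, fun N hN φ => ?_⟩
  have key : ∀ g : (yon _).obj (ConstAct.specInv R A G) ⟶ N,
      Nonempty (BasedFunctor.comp π (AlgSt.ofSpMap g) ≅ φ) ↔
        (yon _).map (ConstAct.quot R A G) ≫ g = restrHom φ := fun g => by
    rw [nonempty_iso_iff, restrHom_comp, restrHom_π hπ]
  simp only [key]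
  exact existsUnique_quot hN (restrHom φ) (act_restrHom hπ φ)

theorem fibSec_triv {T : Over (Spec (CommRingCat.of R))} (x : T ⟶ ConstAct.X R A)
    (y : (ConstAct.quotSt R A G Scheme.fppfPrecoverage).p.Fiber T)
    (e : triv Scheme.fppfPrecoverage (ConstAct.GR R G) (ConstAct.gaction R A G) x ≅ y.1)
    (he : e.hom.base = eqToHom y.2.symm) : AlgSt.fibSec π y = ⟨x ≫ ConstAct.quot R A G⟩ := by
  have h1 : secAt π (triv Scheme.fppfPrecoverage (ConstAct.GR R G) (ConstAct.gaction R A G) x) =
      ⟨x ≫ ConstAct.quot R A G⟩ := by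
    rw [← restrHom_app, restrHom_π hπ]
    rfl
  rw [fibSec_eq, ← h1, ← secAt_map π e.hom]
  exact res_congr _ he.symm _

/-- The quotient stack is bijective on geometric points with the spectrum of the invariants. -/
theorem geomPtBij [Algebra.FiniteType R A] : AlgSt.GeomPtBij π := by
  have := finite_inv R A G
  have : Algebra.IsIntegral (ConstAct.inv R A G) A := Algebra.IsIntegral.of_finite _ A
  intro Ω _ _ t
  let T : Over (Spec (CommRingCat.of R)) := Over.mk t
  constructor
  · intro m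
    obtain ⟨φ, hφ⟩ : ∃ φ : CommRingCat.of (ConstAct.inv R A G) ⟶ CommRingCat.of Ω, Spec.map φ = m.down.left :=
      Spec.map_surjective _
    obtain ⟨x₀, hx₀⟩ := exists_extension (A := A) Subtype.val_injective φ.hom
    have hl : Spec.map (CommRingCat.ofHom x₀) ≫ (ConstAct.quot R A G).left = m.down.left := by
      rw [quot_left R A G, ← Spec.map_comp, ← hφ, ← CommRingCat.ofHom_comp, hx₀, CommRingCat.ofHom_hom]
    let x : T ⟶ ConstAct.X R A := Over.homMk (Spec.map (CommRingCat.ofHom x₀)) (by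
      show Spec.map (CommRingCat.ofHom x₀) ≫ (ConstAct.specA R A).hom = T.hom
      rw [← Over.w (ConstAct.quot R A G), ← Category.assoc, hl]
      exact Over.w m.down)
    refine ⟨⟨triv Scheme.fppfPrecoverage (ConstAct.GR R G) (ConstAct.gaction R A G) x, rfl⟩, ?_⟩
    rw [fibSec_triv hπ x _ (Iso.refl _) rfl]
    exact ULift.ext _ _ (Over.OverMorphism.ext hl)
  · intro y₁ y₂ h
    obtain ⟨x₁, e₁, he₁⟩ := exists_triv_iso (T := T) (fun f hf => exists_section_field Ω t f hf) y₁.1 y₁.2
    obtain ⟨x₂, e₂, he₂⟩ := exists_triv_iso (T := T) (fun f hf => exists_section_field Ω t f hf) y₂.1 y₂.2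
    rw [fibSec_triv hπ x₁ y₁ e₁ he₁, fibSec_triv hπ x₂ y₂ e₂ he₂] at h
    have hx : x₁ ≫ ConstAct.quot R A G = x₂ ≫ ConstAct.quot R A G := congrArg ULift.down h
    obtain ⟨χ₁, hχ₁⟩ : ∃ χ : CommRingCat.of A ⟶ CommRingCat.of Ω, Spec.map χ = x₁.left :=
      Spec.map_surjective _
    obtain ⟨χ₂, hχ₂⟩ : ∃ χ : CommRingCat.of A ⟶ CommRingCat.of Ω, Spec.map χ = x₂.left :=
      Spec.map_surjective _
    have hB : χ₂.hom.comp (algebraMap (ConstAct.inv R A G) A) = χ₁.hom.comp (algebraMap (ConstAct.inv R A G) A) := by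
      have := congrArg CategoryTheory.Over.Hom.left hx.symm
      rw [Over.comp_left, Over.comp_left, quot_left R A G, ← hχ₁, ← hχ₂, ← Spec.map_comp, ← Spec.map_comp] at this
      exact congrArg CommRingCat.Hom.hom (Spec.map_injective this)
    obtain ⟨g, hg⟩ := exists_smul_of_comp_eq (G := G) χ₂.hom χ₁.hom hB
    have hxg : x₁ = x₂ ≫ ConstAct.act R A G g := Over.OverMorphism.ext (by
      rw [Over.comp_left, ConstAct.act_left, ← hχ₂, ← hχ₁, ← Spec.map_comp]
      exact congrArg Spec.map (CommRingCat.hom_ext (RingHom.ext hg)))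
    obtain ⟨k, hk, -⟩ := (hom_triv_iff (K := Scheme.fppfPrecoverage) (aX := ConstAct.gaction R A G) (𝟙 T) x₁ x₂).2
      (x₂ ≫ CoactBr.pt (ConstAct.constPt R G (K := A) g⁻¹)) (by
        rw [Category.id_comp, constPt_act, inv_inv, hxg])
    let i := homLiftIso (𝟙 (triv Scheme.fppfPrecoverage (ConstAct.GR R G) (ConstAct.gaction R A G) x₂)) k (Iso.refl T)
      ((Category.id_comp _).trans hk.symm)
    refine fiber_iso y₁ y₂ (e₁.symm ≪≫ i ≪≫ e₂) ?_
    have h1 : e₁.inv.base = eqToHom y₁.2 := by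
      have := congrArg AlgSt.QuotObj.Hom.base e₁.hom_inv_id
      change e₁.hom.base ≫ e₁.inv.base = 𝟙 T at this
      rw [he₁] at this
      rw [← cancel_epi (eqToHom y₁.2.symm), this, eqToHom_trans, eqToHom_refl]
    show e₁.inv.base ≫ 𝟙 T ≫ e₂.hom.base = _
    rw [h1, he₂]
    exact (congrArg (eqToHom y₁.2 ≫ ·) (Category.id_comp _)).trans (eqToHom_trans _ _)

end Groth.Agent.ConstQuot49
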