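import Groth.Agent.ConstQuot49.FlatCase
import Groth.Prelude.Def_StMod2
import Mathlib.Algebra.Polynomial.Eval.Defs

/-!
# Functions on flat base changes of `[Spec A / G]`
-/

set_option autoImplicit false
set_option backward.isDefEq.respectTransparency false
set_option backward.isDefEq.respectTransparency.types false

universe u

open CategoryTheory CategoryTheory.Functor CategoryTheory.Limits MonoidalCategory CartesianMonoidalCategory MonObj
  AlgebraicGeometry Opposite AlgSp Groth.Agent.FibBase Groth.Agent.AlgSpLib Groth.Agent.AlgStLib Groth.Agent.QuotLib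

namespace Groth.Agent.ConstQuot49

variable {R : Type u} [CommRing R] {A : Type u} [CommRing A] [Algebra R A]
  {G : Type u} [Group G] [Fintype G] [DecidableEq G] [MulSemiringAction G A] [SMulCommClass G R A]

section Factor

variable {Y : Over (Spec (CommRingCat.of R))} (g : Y ⟶ ConstAct.specInv R A G)

/-- The action on the fibre product. -/
noncomputable def pAct (k : G) : pullback g (ConstAct.quot R A G) ⟶ pullback g (ConstAct.quot R A G) :=
  pullback.lift (pullback.fst g (ConstAct.quot R A G)) (pullback.snd g (ConstAct.quot R A G) ≫ ConstAct.act R A G k)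
    (by rw [Category.assoc, ConstAct.act_quot, pullback.condition])

@[reassoc (attr := simp)]
theorem pAct_fst (k : G) : pAct g k ≫ pullback.fst g (ConstAct.quot R A G) = pullback.fst g (ConstAct.quot R A G) :=
  pullback.lift_fst _ _ _

@[reassoc (attr := simp)]
theorem pAct_snd (k : G) : pAct g k ≫ pullback.snd g (ConstAct.quot R A G) =
    pullback.snd g (ConstAct.quot R A G) ≫ ConstAct.act R A G k :=
  pullback.lift_snd _ _ _

variable {N : Sp (Spec (CommRingCat.of R))}

/-- The affine case. -/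
theorem existsUnique_pullback_affine [Algebra.FiniteType R A] [IsAffine Y.left] [Flat g.left] (hN : IsAlgSpace N)
    (h : (yon _).obj (pullback g (ConstAct.quot R A G)) ⟶ N) (hh : ∀ k, (yon _).map (pAct g k) ≫ h = h) :
    ∃! χ : (yon _).obj Y ⟶ N, (yon _).map (pullback.fst g (ConstAct.quot R A G)) ≫ χ = h := by
  obtain ⟨P, a, b, σ, w, hσa, hσb, hlift, H⟩ := exists_model g
  let v : P ⟶ pullback g (ConstAct.quot R A G) := pullback.lift a b w
  obtain ⟨z, hza, hzb⟩ := hlift (pullback.fst g (ConstAct.quot R A G)) (pullback.snd g (ConstAct.quot R A G))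
    pullback.condition
  have hzv : z ≫ v = 𝟙 (pullback g (ConstAct.quot R A G)) := by
    apply pullback.hom_ext
    · rw [Category.assoc, pullback.lift_fst, hza, Category.id_comp]
    · rw [Category.assoc, pullback.lift_snd, hzb, Category.id_comp]
  have hσv : ∀ k, σ k ≫ v = v ≫ pAct g k := fun k => by
    apply pullback.hom_ext
    · rw [Category.assoc, Category.assoc, pAct_fst, pullback.lift_fst, hσa]
    · rw [Category.assoc, Category.assoc, pAct_snd, pullback.lift_snd, pullback.lift_snd_assoc, hσb]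
  obtain ⟨χ, hχ, hu⟩ := H N hN ((yon _).map v ≫ h) fun k => by
    rw [← Category.assoc, ← Functor.map_comp, hσv, Functor.map_comp, Category.assoc, hh]
  refine ⟨χ, ?_, fun χ' hχ' => hu χ' ?_⟩
  · show _ = h
    rw [← hza, Functor.map_comp, Category.assoc, hχ, ← Category.assoc, ← Functor.map_comp, hzv,
      CategoryTheory.Functor.map_id, Category.id_comp]
  · show _ = _
    rw [← hχ', ← Category.assoc, ← Functor.map_comp, pullback.lift_fst]

/-- Functoriality of the fibre product. -/
noncomputable def pMap {V : Over (Spec (CommRingCat.of R))} (j : V ⟶ Y) :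
    pullback (j ≫ g) (ConstAct.quot R A G) ⟶ pullback g (ConstAct.quot R A G) :=
  pullback.lift (pullback.fst (j ≫ g) (ConstAct.quot R A G) ≫ j) (pullback.snd (j ≫ g) (ConstAct.quot R A G))
    (by rw [Category.assoc, pullback.condition])

theorem pMap_fst {V : Over (Spec (CommRingCat.of R))} (j : V ⟶ Y) :
    pMap g j ≫ pullback.fst g (ConstAct.quot R A G) = pullback.fst (j ≫ g) (ConstAct.quot R A G) ≫ j :=
  pullback.lift_fst _ _ _

theorem pMap_snd {V : Over (Spec (CommRingCat.of R))} (j : V ⟶ Y) :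
    pMap g j ≫ pullback.snd g (ConstAct.quot R A G) = pullback.snd (j ≫ g) (ConstAct.quot R A G) :=
  pullback.lift_snd _ _ _

theorem pMap_pAct {V : Over (Spec (CommRingCat.of R))} (j : V ⟶ Y) (k : G) :
    pAct (j ≫ g) k ≫ pMap g j = pMap g j ≫ pAct g k := by
  apply pullback.hom_ext
  · rw [Category.assoc, Category.assoc, pMap_fst, pAct_fst, pMap_fst, pAct_fst_assoc]
  · rw [Category.assoc, Category.assoc, pMap_snd, pAct_snd, pAct_snd, ← Category.assoc, pMap_snd]

/-- The affine open pieces of a scheme over the base. -/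
noncomputable abbrev piece (i : Y.left.affineCover.I₀) : Over (Spec (CommRingCat.of R)) :=
  Over.mk (Y.left.affineCover.f i ≫ Y.hom)

/-- Their inclusions. -/
noncomputable abbrev incl (i : Y.left.affineCover.I₀) : piece i ⟶ Y :=
  Over.homMk (Y.left.affineCover.f i) rfl

theorem incl_cover (x : Y.left) : ∃ i, x ∈ Set.range (incl (Y := Y) i).left.base := by
  obtain ⟨y, hy⟩ := Y.left.affineCover.covers x
  exact ⟨_, y, hy⟩

/-- Maps out of a flat scheme over the invariants are determined on the fibre product. -/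
theorem ext_flat [Algebra.FiniteType R A] [Flat g.left] (hN : IsAlgSpace N) {χ χ' : (yon _).obj Y ⟶ N}
    (h : (yon _).map (pullback.fst g (ConstAct.quot R A G)) ≫ χ =
      (yon _).map (pullback.fst g (ConstAct.quot R A G)) ≫ χ') : χ = χ' := by
  refine hom_ext_of_etale_cover piece incl (fun i => inferInstanceAs (Etale (Y.left.affineCover.f i))) incl_cover
    fun i => ?_
  have : Flat (incl i ≫ g).left := inferInstanceAs (Flat (Y.left.affineCover.f i ≫ g.left))
  have : IsAffine (piece (Y := Y) i).left := inferInstanceAs (IsAffine (Y.left.affineCover.X i))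
  refine (existsUnique_pullback_affine (incl i ≫ g) hN
    ((yon _).map (pMap g (incl i) ≫ pullback.fst g (ConstAct.quot R A G)) ≫ χ) fun k => ?_).unique ?_ ?_
  · rw [← Category.assoc, ← Functor.map_comp, ← Category.assoc, pMap_pAct, Category.assoc, pAct_fst]
  · rw [pMap_fst, Functor.map_comp, Category.assoc]
  · show _ = _
    rw [Functor.map_comp _ (pMap g (incl i)), Category.assoc, h, ← Category.assoc ((yon _).map (pMap g (incl i))),
      ← Functor.map_comp, pMap_fst, Functor.map_comp, Category.assoc]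

/-- Two local descents agree on a common flat refinement. -/
theorem glue_key [Algebra.FiniteType R A] (hN : IsAlgSpace N) (h : (yon _).obj (pullback g (ConstAct.quot R A G)) ⟶ N)
    {V V' Z : Over (Spec (CommRingCat.of R))} (jV : V ⟶ Y) (jV' : V' ⟶ Y) (e₁ : Z ⟶ V) (e₂ : Z ⟶ V') (jZ : Z ⟶ Y)
    (h₁ : jZ = e₁ ≫ jV) (h₂ : jZ = e₂ ≫ jV') [Flat (jZ ≫ g).left] (c : (yon _).obj V ⟶ N) (c' : (yon _).obj V' ⟶ N)
    (hc : (yon _).map (pullback.fst (jV ≫ g) (ConstAct.quot R A G)) ≫ c = (yon _).map (pMap g jV) ≫ h)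
    (hc' : (yon _).map (pullback.fst (jV' ≫ g) (ConstAct.quot R A G)) ≫ c' = (yon _).map (pMap g jV') ≫ h) :
    (yon _).map e₁ ≫ c = (yon _).map e₂ ≫ c' := by
  refine ext_flat (jZ ≫ g) hN ?_
  let f := pullback.fst (jZ ≫ g) (ConstAct.quot R A G)
  have w₁ : (f ≫ e₁) ≫ jV ≫ g = pullback.snd (jZ ≫ g) (ConstAct.quot R A G) ≫ ConstAct.quot R A G := by
    rw [Category.assoc, ← Category.assoc e₁, ← h₁]; exact pullback.condition
  have w₂ : (f ≫ e₂) ≫ jV' ≫ g = pullback.snd (jZ ≫ g) (ConstAct.quot R A G) ≫ ConstAct.quot R A G := by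
    rw [Category.assoc, ← Category.assoc e₂, ← h₂]; exact pullback.condition
  let m₁ := pullback.lift (f := jV ≫ g) (g := ConstAct.quot R A G) (f ≫ e₁) _ w₁
  let m₂ := pullback.lift (f := jV' ≫ g) (g := ConstAct.quot R A G) (f ≫ e₂) _ w₂
  have t1 : m₁ ≫ pullback.fst (jV ≫ g) (ConstAct.quot R A G) = f ≫ e₁ := pullback.lift_fst _ _ _
  have t2 : m₂ ≫ pullback.fst (jV' ≫ g) (ConstAct.quot R A G) = f ≫ e₂ := pullback.lift_fst _ _ _
  have hm : m₁ ≫ pMap g jV = m₂ ≫ pMap g jV' := by
    apply pullback.hom_ext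
    · rw [Category.assoc, Category.assoc, pMap_fst, pMap_fst, ← Category.assoc m₁, ← Category.assoc m₂, t1, t2,
        Category.assoc, Category.assoc, ← h₁, ← h₂]
    · rw [Category.assoc, Category.assoc, pMap_snd, pMap_snd, pullback.lift_snd, pullback.lift_snd]
  show (yon _).map f ≫ (yon _).map e₁ ≫ c = (yon _).map f ≫ (yon _).map e₂ ≫ c'
  rw [← Category.assoc, ← Category.assoc, ← Functor.map_comp, ← Functor.map_comp, ← t1, ← t2, Functor.map_comp,
    Functor.map_comp, Category.assoc, Category.assoc, hc, hc', ← Category.assoc, ← Category.assoc,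
    ← Functor.map_comp, ← Functor.map_comp, hm]

/-- An invariant map on the fibre product with a flat scheme over the invariants descends uniquely. -/
theorem existsUnique_pullback_flat [Algebra.FiniteType R A] [Flat g.left] (hN : IsAlgSpace N)
    (h : (yon _).obj (pullback g (ConstAct.quot R A G)) ⟶ N) (hh : ∀ k, (yon _).map (pAct g k) ≫ h = h) :
    ∃! χ : (yon _).obj Y ⟶ N, (yon _).map (pullback.fst g (ConstAct.quot R A G)) ≫ χ = h := by
  have hloc : ∀ i, ∃ c : (yon _).obj (piece (Y := Y) i) ⟶ N,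
      (yon _).map (pullback.fst (incl i ≫ g) (ConstAct.quot R A G)) ≫ c = (yon _).map (pMap g (incl i)) ≫ h := by
    intro i
    have : Flat (incl i ≫ g).left := inferInstanceAs (Flat (Y.left.affineCover.f i ≫ g.left))
    have : IsAffine (piece (Y := Y) i).left := inferInstanceAs (IsAffine (Y.left.affineCover.X i))
    exact (existsUnique_pullback_affine (incl i ≫ g) hN _ fun k => by
      rw [← Category.assoc, ← Functor.map_comp, pMap_pAct, Functor.map_comp, Category.assoc, hh]).exists
  choose c hc using hloc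
  obtain ⟨d, hd⟩ := exists_glue piece incl (fun i => inferInstanceAs (Etale (Y.left.affineCover.f i))) incl_cover c
    fun i i' W a a' haa => by
      let Z := pullback (incl (Y := Y) i) (incl i')
      let e₁ : Z ⟶ piece i := pullback.fst _ _
      let e₂ : Z ⟶ piece i' := pullback.snd _ _
      let jZ : Z ⟶ Y := e₁ ≫ incl i
      have hjZ : jZ = e₂ ≫ incl i' := pullback.condition
      have hopen : IsOpenImmersion e₁.left :=
        MorphismProperty.of_isPullback ((IsPullback.of_hasPullback (incl (Y := Y) i) (incl i')).map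
          (Over.forget _)).flip (inferInstanceAs (IsOpenImmersion (Y.left.affineCover.f i')))
      have : Flat (jZ ≫ g).left := by
        show Flat ((e₁.left ≫ Y.left.affineCover.f i) ≫ g.left)
        infer_instance
      have key : (yon _).map e₁ ≫ c i = (yon _).map e₂ ≫ c i' :=
        glue_key g hN h (incl i) (incl i') e₁ e₂ jZ rfl hjZ (c i) (c i') (hc i) (hc i')
      obtain ⟨l, hl1, hl2⟩ : ∃ l : W ⟶ Z, l ≫ e₁ = a ∧ l ≫ e₂ = a' :=
        ⟨pullback.lift a a' haa, pullback.lift_fst _ _ _, pullback.lift_snd _ _ _⟩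
      rw [← hl1, ← hl2, Functor.map_comp, Functor.map_comp, Category.assoc, Category.assoc, key]
  have hdA : (yon _).map (pullback.fst g (ConstAct.quot R A G)) ≫ d = h := by
    refine hom_ext_of_etale_cover (fun i => pullback (incl (Y := Y) i ≫ g) (ConstAct.quot R A G))
      (fun i => pMap g (incl i)) (fun i => ?_) (fun x => ?_) fun i => ?_
    · have hpb : IsPullback (pMap g (incl i)) (pullback.fst (incl i ≫ g) (ConstAct.quot R A G))
          (pullback.fst g (ConstAct.quot R A G)) (incl i) := by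
        refine IsPullback.of_right ?_ (pMap_fst g (incl i)) (IsPullback.of_hasPullback g (ConstAct.quot R A G)).flip
        rw [pMap_snd]
        exact (IsPullback.of_hasPullback (incl i ≫ g) (ConstAct.quot R A G)).flip
      exact MorphismProperty.of_isPullback (hpb.map (Over.forget _)).flip
        (inferInstanceAs (Etale (Y.left.affineCover.f i)))
    · obtain ⟨i, y, hy⟩ := incl_cover (Y := Y) ((pullback.fst g (ConstAct.quot R A G)).left.base x)
      have hpb : IsPullback (pMap g (incl i)) (pullback.fst (incl i ≫ g) (ConstAct.quot R A G))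
          (pullback.fst g (ConstAct.quot R A G)) (incl i) := by
        refine IsPullback.of_right ?_ (pMap_fst g (incl i)) (IsPullback.of_hasPullback g (ConstAct.quot R A G)).flip
        rw [pMap_snd]
        exact (IsPullback.of_hasPullback (incl i ≫ g) (ConstAct.quot R A G)).flip
      obtain ⟨r, hr, -⟩ := Scheme.exists_preimage_of_isPullback (hpb.map (Over.forget _)) x y hy.symm
      exact ⟨i, r, hr⟩
    · rw [← Category.assoc, ← Functor.map_comp, pMap_fst, Functor.map_comp, Category.assoc, hd, hc]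
  exact ⟨d, hdA, fun d' hd' => ext_flat g hN (hd'.trans hdA.symm)⟩

end Factor


section Line

variable (R)

/-- The affine line over the base. -/
noncomputable abbrev line : Over (Spec (CommRingCat.of R)) :=
  Over.mk (Spec.map (CommRingCat.ofHom (Polynomial.C : R →+* Polynomial R)))

variable {R}

/-- The function attached to a map to the line. -/
noncomputable def coord {T : Over (Spec (CommRingCat.of R))} (m : T ⟶ line R) : Γ(T.left, ⊤) :=
  ((Scheme.ΓSpecIso (CommRingCat.of (Polynomial R))).inv ≫ m.left.appTop) Polynomial.X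

theorem coord_comp {T T' : Over (Spec (CommRingCat.of R))} (j : T' ⟶ T) (m : T ⟶ line R) :
    coord (j ≫ m) = j.left.appTop (coord m) := by
  show ((Scheme.ΓSpecIso _).inv ≫ (j.left ≫ m.left).appTop) Polynomial.X = _
  rw [Scheme.Hom.comp_appTop]
  rfl

theorem coord_injective {T : Over (Spec (CommRingCat.of R))} : Function.Injective (coord (T := T)) := by
  intro m m' h
  have : IsAffine (line R).left := inferInstanceAs (IsAffine (Spec (CommRingCat.of (Polynomial R))))
  refine Over.OverMorphism.ext ?_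
  refine ext_of_isAffine ?_
  rw [← cancel_epi (Scheme.ΓSpecIso (CommRingCat.of (Polynomial R))).inv]
  refine CommRingCat.hom_ext (Polynomial.ringHom_ext (fun r => ?_) h)
  have key : ∀ n : T ⟶ line R, ((Scheme.ΓSpecIso _).inv ≫ n.left.appTop) (Polynomial.C r) =
      T.hom.appTop ((Scheme.ΓSpecIso (CommRingCat.of R)).inv r) := by
    intro n
    have hn : n.left ≫ Spec.map (CommRingCat.ofHom (Polynomial.C : R →+* Polynomial R)) = T.hom := Over.w n
    rw [← hn, Scheme.Hom.comp_appTop]
    have h2 := congrArg (fun z : CommRingCat.of R ⟶ Γ(Spec (CommRingCat.of (Polynomial R)), ⊤) => z r)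
      (Scheme.ΓSpecIso_inv_naturality (CommRingCat.ofHom (Polynomial.C : R →+* Polynomial R)))
    exact congrArg n.left.appTop h2
  exact (key m).trans (key m').symm

theorem coord_surjective {T : Over (Spec (CommRingCat.of R))} : Function.Surjective (coord (T := T)) := by
  intro f
  let ρ : R →+* Γ(T.left, ⊤) := ((Scheme.ΓSpecIso (CommRingCat.of R)).inv ≫ T.hom.appTop).hom
  let ψ : Polynomial R →+* Γ(T.left, ⊤) := Polynomial.eval₂RingHom ρ f
  have hw : (T.left.toSpecΓ ≫ Spec.map (CommRingCat.ofHom ψ)) ≫ Spec.map (CommRingCat.ofHom Polynomial.C) = T.hom := by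
    rw [Category.assoc, ← Spec.map_comp,
      show CommRingCat.ofHom Polynomial.C ≫ CommRingCat.ofHom ψ =
        (Scheme.ΓSpecIso (CommRingCat.of R)).inv ≫ T.hom.appTop from
          CommRingCat.hom_ext (RingHom.ext fun r => Polynomial.eval₂_C ρ f),
      Spec.map_comp, ← Category.assoc, ← Scheme.toSpecΓ_naturality]
    rw [Category.assoc, ← Scheme.isoSpec_hom, ← Scheme.isoSpec_Spec_inv, Iso.hom_inv_id, Category.comp_id]
  refine ⟨Over.homMk (T.left.toSpecΓ ≫ Spec.map (CommRingCat.ofHom ψ)) hw, ?_⟩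
  show ((Scheme.ΓSpecIso _).inv ≫ (T.left.toSpecΓ ≫ Spec.map (CommRingCat.ofHom ψ)).appTop) Polynomial.X = f
  have e : (Scheme.ΓSpecIso (CommRingCat.of (Polynomial R))).inv ≫
      (T.left.toSpecΓ ≫ Spec.map (CommRingCat.ofHom ψ)).appTop = CommRingCat.ofHom ψ := by
    rw [Scheme.Hom.comp_appTop, ← Category.assoc, ← Scheme.ΓSpecIso_inv_naturality, Category.assoc,
      Scheme.toSpecΓ_appTop, Iso.inv_hom_id, Category.comp_id]
  rw [e]
  exact Polynomial.eval₂_X ρ f

theorem coord_cancel {T T' : Over (Spec (CommRingCat.of R))} (j : T' ⟶ T) (hj : fppf j.left)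
    {f f' : Γ(T.left, ⊤)} (h : j.left.appTop f = j.left.appTop f') : f = f' := by
  obtain ⟨m, rfl⟩ := coord_surjective f
  obtain ⟨m', rfl⟩ := coord_surjective f'
  rw [← coord_comp, ← coord_comp] at h
  let a : ((yon _).obj (line R)).obj.obj (op T) := ⟨m⟩
  let a' : ((yon _).obj (line R)).obj.obj (op T) := ⟨m'⟩
  have e : a = a' := (Presieve.isSeparatedFor_singleton.1
    (isSheafFor_singleton_fppf ((yon _).obj (line R)) j hj).isSeparatedFor) (congrArg ULift.up (coord_injective h))
  exact congrArg coord (congrArg ULift.down e)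

end Line

attribute [local instance] flat_GR lfp_GR

variable {π : ConstAct.quotSt R A G Scheme.fppfPrecoverage ⥤ᵇ AlgSt.ofSch (ConstAct.specInv R A G)}
  (hπ : BasedFunctor.comp
      (AlgSt.quotMap Scheme.fppfPrecoverage (ConstAct.GR R G) (ConstAct.gaction R A G)) π =
    AlgSt.ofSpMap ((AlgSp.yon (Spec (CommRingCat.of R))).map (ConstAct.quot R A G)))

section Sections

theorem lift_one_act {T : Over (Spec (CommRingCat.of R))} (x : T ⟶ ConstAct.X R A) :
    lift (toUnit T ≫ η[ConstAct.GR R G]) x ≫ (ConstAct.gaction R A G).act = x := by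
  rw [← lift_whiskerRight, Category.assoc, (ConstAct.gaction R A G).one_act, lift_leftUnitor_hom]

variable {Y : Over (Spec (CommRingCat.of R))} {g : Y ⟶ ConstAct.specInv R A G}

/-- The pairs over an object of the base, in terms of base maps. -/
theorem alpha_sec {ξ : (ConstAct.quotSt R A G Scheme.fppfPrecoverage).obj}
    (α : π.obj ξ ⟶ (⟨Y, ⟨g⟩⟩ : (AlgSt.ofSch (ConstAct.specInv R A G)).obj)) :
    StMod.baseOver π ξ α ≫ g = (secAt π ξ).down := by
  have h : α.hom ≫ g = (π.obj ξ).sec.down := congrArg ULift.down α.map_sec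
  show (eqToHom (π.w_obj ξ).symm ≫ α.hom) ≫ g = eqToHom (π.w_obj ξ).symm ≫ (π.obj ξ).sec.down
  rw [Category.assoc, h]

theorem exists_alpha {ξ : (ConstAct.quotSt R A G Scheme.fppfPrecoverage).obj}
    (y : (ConstAct.quotSt R A G Scheme.fppfPrecoverage).p.obj ξ ⟶ Y) (hy : y ≫ g = (secAt π ξ).down) :
    ∃ α : π.obj ξ ⟶ (⟨Y, ⟨g⟩⟩ : (AlgSt.ofSch (ConstAct.specInv R A G)).obj), StMod.baseOver π ξ α = y := by
  refine ⟨⟨eqToHom (π.w_obj ξ) ≫ y, ULift.ext _ _ ?_⟩, ?_⟩
  · show (eqToHom (π.w_obj ξ) ≫ y) ≫ g = (π.obj ξ).sec.down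
    rw [Category.assoc, hy]
    show eqToHom (π.w_obj ξ) ≫ eqToHom (π.w_obj ξ).symm ≫ (π.obj ξ).sec.down = _
    simp
  · show eqToHom (π.w_obj ξ).symm ≫ eqToHom (π.w_obj ξ) ≫ y = y
    simp

theorem alpha_ext {ξ : (ConstAct.quotSt R A G Scheme.fppfPrecoverage).obj}
    {α α' : π.obj ξ ⟶ (⟨Y, ⟨g⟩⟩ : (AlgSt.ofSch (ConstAct.specInv R A G)).obj)}
    (h : StMod.baseOver π ξ α = StMod.baseOver π ξ α') : α = α' :=
  Stk.EltObj.hom_ext ((cancel_epi (eqToHom (π.w_obj ξ).symm)).1 h)

/-- Compatibility of a family of functions along a morphism. -/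
theorem rel_val (s : (StMod.O (ConstAct.quotSt R A G Scheme.fppfPrecoverage)).RelSect π
    (⟨Y, ⟨g⟩⟩ : (AlgSt.ofSch (ConstAct.specInv R A G)).obj))
    {ξ' ξ : (ConstAct.quotSt R A G Scheme.fppfPrecoverage).obj} (k : ξ' ⟶ ξ)
    (α : π.obj ξ ⟶ (⟨Y, ⟨g⟩⟩ : (AlgSt.ofSch (ConstAct.specInv R A G)).obj))
    (α' : π.obj ξ' ⟶ (⟨Y, ⟨g⟩⟩ : (AlgSt.ofSch (ConstAct.specInv R A G)).obj))
    (j : (ConstAct.quotSt R A G Scheme.fppfPrecoverage).p.obj ξ' ⟶ (ConstAct.quotSt R A G Scheme.fppfPrecoverage).p.obj ξ)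
    (hk : (ConstAct.quotSt R A G Scheme.fppfPrecoverage).p.map k = j)
    (h : j ≫ StMod.baseOver π ξ α = StMod.baseOver π ξ' α') : j.left.appTop (s.1 ξ α) = s.1 ξ' α' := by
  subst hk
  rw [show α' = π.map k ≫ α from alpha_ext (h.symm.trans (StMod.map_comp_baseOver π k α))]
  exact s.2 k α

include hπ in
theorem secAt_triv {T : Over (Spec (CommRingCat.of R))} (x : T ⟶ ConstAct.X R A) :
    (secAt π (triv Scheme.fppfPrecoverage (ConstAct.GR R G) (ConstAct.gaction R A G) x)).down =
      x ≫ ConstAct.quot R A G := by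
  rw [← restrHom_app, restrHom_π hπ]
  rfl

include hπ in
theorem bijective_unitSect [Algebra.FiniteType R A] [Flat g.left] :
    Function.Bijective (StMod.unitSect π (⟨Y, ⟨g⟩⟩ : (AlgSt.ofSch (ConstAct.specInv R A G)).obj)) := by
  let PP := pullback g (ConstAct.quot R A G)
  let fY : PP ⟶ Y := pullback.fst _ _
  let fX : PP ⟶ ConstAct.X R A := pullback.snd _ _
  let ξP := triv Scheme.fppfPrecoverage (ConstAct.GR R G) (ConstAct.gaction R A G) fX
  obtain ⟨αP, hαP⟩ := exists_alpha (π := π) (g := g) (ξ := ξP) fY (pullback.condition.trans (secAt_triv hπ fX).symm)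
  refine ⟨fun r r' hrr => ?_, fun s => ?_⟩
  · have h := congrArg (fun t : (StMod.O (ConstAct.quotSt R A G Scheme.fppfPrecoverage)).RelSect π
      (⟨Y, ⟨g⟩⟩ : (AlgSt.ofSch (ConstAct.specInv R A G)).obj) => t.1 ξP αP) hrr
    simp only [StMod.unitSect_val] at h
    rw [hαP] at h
    obtain ⟨m, rfl⟩ := coord_surjective (T := Y) r
    obtain ⟨m', rfl⟩ := coord_surjective (T := Y) r'
    rw [← coord_comp, ← coord_comp] at h
    have := ext_flat g (IsAlgSpace.yon_obj (line R)) (χ := (yon _).map m) (χ' := (yon _).map m')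
      (by rw [← Functor.map_comp, ← Functor.map_comp]; exact congrArg _ (coord_injective h))
    exact congrArg coord ((yon _).map_injective this)
  · -- the value on a point of the fibre product
    have hval : ∀ {T : Over (Spec (CommRingCat.of R))} (z : T ⟶ PP)
        (α : π.obj (triv Scheme.fppfPrecoverage (ConstAct.GR R G) (ConstAct.gaction R A G) (z ≫ fX)) ⟶
          (⟨Y, ⟨g⟩⟩ : (AlgSt.ofSch (ConstAct.specInv R A G)).obj)),
        StMod.baseOver π _ α = z ≫ fY → z.left.appTop (s.1 ξP αP) = s.1 _ α := by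
      intro T z α hα
      obtain ⟨k, hk, -⟩ := (hom_triv_iff (K := Scheme.fppfPrecoverage) (aX := ConstAct.gaction R A G) z (z ≫ fX) fX).2
        (toUnit T ≫ η[ConstAct.GR R G]) (lift_one_act _)
      exact rel_val s k αP α z hk (by rw [hαP, hα])
    obtain ⟨m, hm⟩ := coord_surjective (T := PP) (s.1 ξP αP)
    have hinv : ∀ k, (yon _).map (pAct g k) ≫ (yon _).map m = (yon _).map m := by
      intro k
      rw [← Functor.map_comp]
      refine congrArg _ (coord_injective ?_)
      rw [coord_comp, hm]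
      obtain ⟨α, hα⟩ := exists_alpha (π := π) (g := g)
        (ξ := triv Scheme.fppfPrecoverage (ConstAct.GR R G) (ConstAct.gaction R A G) (pAct g k ≫ fX))
        (pAct g k ≫ fY) (by rw [secAt_triv hπ]; simp only [fY, fX, Category.assoc, pullback.condition])
      rw [hval (pAct g k) α hα]
      obtain ⟨k', hk', -⟩ := (hom_triv_iff (K := Scheme.fppfPrecoverage) (aX := ConstAct.gaction R A G) (𝟙 PP)
        (pAct g k ≫ fX) fX).2 (fX ≫ CoactBr.pt (ConstAct.constPt R G (K := A) k⁻¹)) (by
          rw [Category.id_comp, constPt_act, inv_inv]; exact (pAct_snd g k).symm)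
      refine (rel_val s k' αP α (𝟙 PP) hk' ?_).symm.trans ?_
      · exact (Category.id_comp (StMod.baseOver π ξP αP)).trans (hαP.trans ((pAct_fst g k).symm.trans hα.symm))
      · simp only [Over.id_left, Scheme.Hom.id_appTop]; rfl
    obtain ⟨χ, hχ, -⟩ := existsUnique_pullback_flat g (IsAlgSpace.yon_obj (line R)) ((yon _).map m) hinv
    obtain ⟨n, rfl⟩ := (yon (Spec (CommRingCat.of R))).map_surjective χ
    have hn : fY ≫ n = m := (yon _).map_injective (by rw [Functor.map_comp]; exact hχ)
    refine ⟨coord n, StMod.Mod.RelSect.ext _ _ _ fun ξ α => ?_⟩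
    rw [StMod.unitSect_val]
    let t := trivHom ξ (𝟙 ξ.P) ξ.φ (Category.id_comp _)
    let j : (ConstAct.quotSt R A G Scheme.fppfPrecoverage).p.obj (triv Scheme.fppfPrecoverage (ConstAct.GR R G)
      (ConstAct.gaction R A G) ξ.φ) ⟶ (ConstAct.quotSt R A G Scheme.fppfPrecoverage).p.obj ξ := ξ.π
    have ht : (ConstAct.quotSt R A G Scheme.fppfPrecoverage).p.map t = j := Category.id_comp _
    have hsec : j ≫ (secAt π ξ).down = ξ.φ ≫ ConstAct.quot R A G := by
      have h3 := congrArg ULift.down (secAt_map π t)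
      rw [secAt_triv hπ] at h3
      exact (congrArg (fun z => z ≫ (secAt π ξ).down) ht.symm).trans h3
    let y := StMod.baseOver π ξ α
    let z : ξ.P ⟶ PP := pullback.lift (j ≫ y) ξ.φ (by rw [Category.assoc, alpha_sec, hsec])
    refine coord_cancel (T' := ξ.P) j (fppf_π ξ) ?_
    have hzX : z ≫ fX = ξ.φ := pullback.lift_snd _ _ _
    have hzY : z ≫ fY = j ≫ y := pullback.lift_fst _ _ _
    have e1 : j.left.appTop ((StMod.baseOver π ξ α).left.appTop (coord n)) = z.left.appTop (s.1 ξP αP) := by
      rw [← hm, ← hn, ← coord_comp, ← coord_comp, ← coord_comp, ← Category.assoc z, hzY, Category.assoc]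
    refine e1.trans ?_
    let tz : triv Scheme.fppfPrecoverage (ConstAct.GR R G) (ConstAct.gaction R A G) (z ≫ fX) ⟶ ξ :=
      trivHom ξ (𝟙 ξ.P) (z ≫ fX) ((Category.id_comp _).trans hzX.symm)
    obtain ⟨α', hα'⟩ := exists_alpha (π := π) (g := g)
      (ξ := triv Scheme.fppfPrecoverage (ConstAct.GR R G) (ConstAct.gaction R A G) (z ≫ fX)) (z ≫ fY)
      (by rw [secAt_triv hπ]; simp only [fY, fX, Category.assoc, pullback.condition])
    rw [hval z α' hα']
    exact (rel_val s tz α α' j (Category.id_comp _) (hzY.symm.trans hα'.symm)).symm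

end Sections

end Groth.Agent.ConstQuot49
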